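import Cfsg.Agent.H65.Real
import Cfsg.Agent.H65.BaerSuzuki
import Cfsg.Agent.H4.RealLift
import Cfsg.Agent.H5.Frobenius
import Cfsg.Agent.H3.OddOrderInstance
import Cfsg.Agent.S3861

/-!
Elementary facts on real elements of odd order used for the graph on real class sizes.
-/

set_option autoImplicit false
set_option linter.style.haveILetI false

namespace H3.RealGraph

open Subgroup

variable {G : Type*} [Group G] {Q : Type*} [Group Q]

/-- `g` inverts `x`. -/
abbrev Inv (g x : G) : Prop := g * x * g⁻¹ = x⁻¹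

theorem inv_pow_pow {g x : G} (h : Inv g x) (k : ℕ) : Inv g (x ^ k) := by
  show g * x ^ k * g⁻¹ = (x ^ k)⁻¹
  rw [← conj_pow, h, inv_pow]

theorem Inv.map (f : G →* Q) {g x : G} (h : Inv g x) : Inv (f g) (f x) := by
  show f g * f x * (f g)⁻¹ = (f x)⁻¹
  rw [← map_inv, ← map_mul, ← map_mul, h, map_inv]

theorem eq_one_of_odd_sq {x : G} (hodd : Odd (orderOf x)) (h2 : x * x = 1) : x = 1 := by
  rw [← orderOf_eq_one_iff]
  refine Nat.eq_one_of_dvd_coprimes (Nat.coprime_two_left.2 hodd) ?_ dvd_rfl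
  exact orderOf_dvd_of_pow_eq_one (by rw [pow_two, h2])

theorem eq_one_of_inv_commute {g x : G} (hodd : Odd (orderOf x)) (h : Inv g x)
    (hc : Commute g x) : x = 1 := by
  refine eq_one_of_odd_sq hodd ?_
  have h1 : x = x⁻¹ := by rw [← h]; rw [hc.eq, mul_inv_cancel_right]
  nth_rewrite 2 [h1]
  exact mul_inv_cancel x

variable [Finite G]

/-- From an inverted element of odd order to an inverted element of odd prime order. -/
theorem exists_prime_power {g x : G} (hx : x ≠ 1) (hodd : Odd (orderOf x)) (h : Inv g x) :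
    ∃ k r : ℕ, r.Prime ∧ Odd r ∧ orderOf (x ^ k) = r ∧ Inv g (x ^ k) := by
  obtain ⟨r, hr, hrd⟩ := Nat.exists_prime_and_dvd
    (fun e => hx (orderOf_eq_one_iff.1 e) : orderOf x ≠ 1)
  exact ⟨orderOf x / r, r, hr, Odd.of_dvd_nat hodd hrd,
    orderOf_pow_orderOf_div (orderOf_pos x).ne' hrd, inv_pow_pow h _⟩

/-- An inverting element may be taken of `2`-power order. -/
theorem exists_two_inverter {g x : G} (h : Inv g x) :
    ∃ m k : ℕ, Odd m ∧ (g ^ m) ^ (2 ^ k) = 1 ∧ Inv (g ^ m) x := by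
  obtain ⟨m, k, hm, hk⟩ := H4.RealZJ.exists_odd_pow_two_pow g
  exact ⟨m, k, hm, hk, H65.inverts_pow_of_odd h hm⟩

/-- An element of `2`-power order normalizing a Sylow `2`-subgroup lies in it. -/
theorem mem_sylow_of_normalizer (P : Sylow 2 G) {u : G} {k : ℕ} (hu : u ^ (2 ^ k) = 1)
    (hn : u ∈ normalizer ((P : Subgroup G) : Set G)) : u ∈ (P : Subgroup G) := by
  have hz : IsPGroup 2 (zpowers u) := by
    obtain ⟨i, -, hi⟩ := (Nat.dvd_prime_pow Nat.prime_two).1 (orderOf_dvd_of_pow_eq_one hu)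
    exact IsPGroup.of_card (n := i) (by rw [Nat.card_zpowers, hi])
  have hs : IsPGroup 2 ↥(zpowers u ⊔ (P : Subgroup G)) :=
    IsPGroup.to_sup_of_normal_right' hz P.isPGroup' (zpowers_le.2 hn)
  exact (P.is_maximal' hs le_sup_right) ▸ mem_sup_left (mem_zpowers u)

/-- A subgroup in which no nontrivial element of odd order is inverted. -/
def TwoClosed (H : Subgroup G) : Prop :=
  ∀ x ∈ H, Odd (orderOf x) → ∀ g ∈ H, Inv g x → x = 1

omit [Finite G] in
theorem twoClosed_of_prime [Finite G] (H : Subgroup G)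
    (h : ∀ x ∈ H, ∀ r : ℕ, r.Prime → Odd r → orderOf x = r → ∀ g ∈ H, ¬ Inv g x) :
    TwoClosed H := by
  intro x hx hodd g hg hinv
  by_contra hx1
  obtain ⟨k, r, hr, hro, hord, hinv'⟩ := exists_prime_power hx1 hodd hinv
  exact h _ (H.pow_mem hx k) r hr hro hord g hg hinv'

omit [Finite G] in
theorem TwoClosed.mono {H K : Subgroup G} (h : TwoClosed H) (hle : K ≤ H) : TwoClosed K :=
  fun x hx hodd g hg hinv => h x (hle hx) hodd g (hle hg) hinv

theorem TwoClosed.sylow_normal {H : Subgroup G} (h : TwoClosed H) (S : Sylow 2 H) :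
    (S : Subgroup H).Normal := by
  refine (Cfsg.Agent.S3861.result S).1 fun x hx1 hodd hreal => ?_
  obtain ⟨g, hg⟩ := isConj_iff.1 hreal
  refine hx1 (Subtype.ext (h x x.2 (by rwa [Subgroup.orderOf_coe]) g g.2 ?_))
  show (g : G) * (x : G) * (g : G)⁻¹ = (x : G)⁻¹
  exact congrArg Subtype.val hg

theorem TwoClosed.le_normalizer {H : Subgroup G} (h : TwoClosed H) {P : Sylow 2 G}
    (hP : (P : Subgroup G) ≤ H) : H ≤ normalizer ((P : Subgroup G) : Set G) := by
  haveI := h.sylow_normal (P.subtype hP)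
  intro g hg
  have hn : ∀ u ∈ (P : Subgroup G), ∀ c ∈ H, c * u * c⁻¹ ∈ (P : Subgroup G) := by
    intro u hu c hc
    have h1 : (⟨u, hP hu⟩ : H) ∈ ((P.subtype hP : Sylow 2 H) : Subgroup H) := hu
    exact this.conj_mem _ h1 ⟨c, hc⟩
  rw [mem_normalizer_iff]
  refine fun u => ⟨fun hu => hn u hu g hg, fun hu => ?_⟩
  have h2 := hn _ hu g⁻¹ (H.inv_mem hg)
  rwa [show g⁻¹ * (g * u * g⁻¹) * g⁻¹⁻¹ = u by group] at h2

theorem TwoClosed.mem_sylow {H : Subgroup G} (h : TwoClosed H) {P : Sylow 2 G}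
    (hP : (P : Subgroup G) ≤ H) {u : G} (hu : u ∈ H) {k : ℕ} (hk : u ^ (2 ^ k) = 1) :
    u ∈ (P : Subgroup G) :=
  mem_sylow_of_normalizer P hk (h.le_normalizer hP hu)

theorem TwoClosed.smul_eq {H : Subgroup G} (h : TwoClosed H) {P : Sylow 2 G}
    (hP : (P : Subgroup G) ≤ H) {g : G} (hg : g ∈ H) : g • P = P :=
  Sylow.smul_eq_iff_mem_normalizer.2 (h.le_normalizer hP hg)

/-- A group without inverted elements of odd order is solvable. -/
theorem TwoClosed.isSolvable {H : Subgroup G} (h : TwoClosed H) : Group.IsSolvable H := by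
  obtain ⟨S⟩ := (inferInstance : Nonempty (Sylow 2 H))
  haveI hSn := h.sylow_normal S
  haveI : Group.IsNilpotent (S : Subgroup H) := S.isPGroup'.isNilpotent
  haveI : Group.IsSolvable (H ⧸ (S : Subgroup H)) :=
    H16.FT.oddOrder (Nat.not_even_iff_odd.1 fun he => S.not_dvd_index he.two_dvd)
  exact Group.isSolvable_of_ker_le_range (S : Subgroup H).subtype
    (QuotientGroup.mk' (S : Subgroup H)) (by rw [QuotientGroup.ker_mk', range_subtype])

/-! ### Lifting inverted elements of odd prime order -/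

/-- Coprime fixed points: preimages fixed by a `2`-element. -/
theorem exists_fixed (f : G →* Q) (R : Subgroup G) (hR : Odd (Nat.card R)) :
    ∀ (k : ℕ) (t : G), t ^ (2 ^ k) = 1 → t ∈ normalizer (R : Set G) →
      ∀ y ∈ R, f t * f y * (f t)⁻¹ = f y →
        ∃ y1 ∈ R, t * y1 * t⁻¹ = y1 ∧ f y1 = f y := by
  intro k
  induction k with
  | zero =>
    intro t ht _ y hy _
    rw [pow_zero, pow_one] at ht
    exact ⟨y, hy, by rw [ht, one_mul, inv_one, mul_one], rfl⟩
  | succ k ih =>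
    intro t ht hn y hy hfix
    obtain ⟨y0, hy0, hy0fix, hy0f⟩ := ih (t ^ 2) (by rw [← pow_mul, ← pow_succ', ht]) (pow_mem hn 2)
      y hy (by
        rw [map_pow, pow_two]
        calc f t * f t * f y * (f t * f t)⁻¹ = f t * (f t * f y * (f t)⁻¹) * (f t)⁻¹ := by group
          _ = f y := by rw [hfix, hfix])
    set z := y0⁻¹ * (t * y0 * t⁻¹) with hz
    have hzR : z ∈ R := R.mul_mem (R.inv_mem hy0) ((mem_normalizer_iff.1 hn y0).1 hy0)
    have hzinv : Inv t z := by
      show t * (y0⁻¹ * (t * y0 * t⁻¹)) * t⁻¹ = (y0⁻¹ * (t * y0 * t⁻¹))⁻¹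
      calc t * (y0⁻¹ * (t * y0 * t⁻¹)) * t⁻¹
          = (t * y0 * t⁻¹)⁻¹ * (t ^ 2 * y0 * (t ^ 2)⁻¹) := by rw [pow_two]; group
        _ = _ := by rw [hy0fix]; group
    have hzodd : Odd (orderOf z) := Odd.of_dvd_nat hR (Subgroup.orderOf_dvd_natCard R hzR)
    obtain ⟨j, hj⟩ := hzodd
    have hfz : f z = 1 := by
      rw [hz, map_mul, map_inv, map_mul, map_mul, map_inv, hy0f, hfix, inv_mul_cancel]
    refine ⟨y0 * z ^ (j + 1), R.mul_mem hy0 (R.pow_mem hzR _), ?_, ?_⟩
    · have h1 : z * (z ^ (j + 1))⁻¹ = z ^ (j + 1) := by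
        rw [mul_inv_eq_iff_eq_mul, ← pow_add]
        rw [show j + 1 + (j + 1) = orderOf z + 1 by omega, pow_succ, pow_orderOf_eq_one, one_mul]
      calc t * (y0 * z ^ (j + 1)) * t⁻¹ = (t * y0 * t⁻¹) * (t * z ^ (j + 1) * t⁻¹) := by group
        _ = (y0 * z) * (z ^ (j + 1))⁻¹ := by
            rw [inv_pow_pow hzinv (j + 1), hz, mul_inv_cancel_left]
        _ = y0 * (z * (z ^ (j + 1))⁻¹) := by group
        _ = y0 * z ^ (j + 1) := by rw [h1]
    · rw [map_mul, map_pow, hfz, one_pow, mul_one, hy0f]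

theorem real_lift_aux (f : G →* Q) {r l : ℕ} (hr : r.Prime) (hro : Odd r) {g x0 : G}
    (hord : orderOf (f x0) = r ^ l) (hinv : Inv (f g) (f x0))
    [hn : ((zpowers (f x0)).comap f).Normal] :
    ∃ t x : G, Odd (orderOf x) ∧ f x = f x0 ∧ Inv t x := by
  haveI : Fact r.Prime := ⟨hr⟩
  set M := (zpowers (f x0)).comap f with hM
  -- an `r`-element above `f x0`
  obtain ⟨u, v, huv, ⟨e, he⟩, hvcop, humem, hvmem⟩ := H5.exists_p_decomposition (p := r) x0
  have hux : f u = f x0 := by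
    have hv1 : f v = 1 := by
      rw [← orderOf_eq_one_iff]
      refine Nat.eq_one_of_dvd_coprimes (Nat.Coprime.pow_right l hvcop) (orderOf_map_dvd f v) ?_
      rw [← hord]
      refine orderOf_dvd_of_mem_zpowers ?_
      rw [← MonoidHom.map_zpowers]
      exact mem_map_of_mem _ hvmem
    rw [huv, map_mul, hv1, mul_one]
  have huM : u ∈ M := by rw [hM, mem_comap, hux]; exact mem_zpowers _
  have hup : IsPGroup r (zpowers (⟨u, huM⟩ : M)) := by
    obtain ⟨i, -, hi⟩ := (Nat.dvd_prime_pow hr).1 (orderOf_dvd_of_pow_eq_one he)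
    exact IsPGroup.of_card (n := i) (by rw [Nat.card_zpowers, Subgroup.orderOf_mk, hi])
  obtain ⟨S, hS⟩ := hup.exists_le_sylow
  set R : Subgroup G := (S : Subgroup M).map M.subtype with hR
  have huR : u ∈ R := ⟨⟨u, huM⟩, hS (mem_zpowers _), rfl⟩
  have hRodd : Odd (Nat.card R) := by
    rw [hR, card_map_of_injective M.subtype_injective]
    obtain ⟨i, hi⟩ := S.isPGroup'.exists_card_eq
    rw [hi]
    exact hro.pow
  -- the Frattini argument
  have hg : g ∈ normalizer (R : Set G) ⊔ M := by rw [Sylow.normalizer_sup_eq_top S]; exact mem_top g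
  obtain ⟨y, hy, z, hz, hyz⟩ := mem_sup_of_normal_right.1 hg
  have hyinv : Inv (f y) (f x0) := by
    obtain ⟨i, hi⟩ := mem_zpowers_iff.1 (mem_comap.1 hz)
    have hcz : f z * f x0 * (f z)⁻¹ = f x0 := by rw [← hi]; group
    show f y * f x0 * (f y)⁻¹ = (f x0)⁻¹
    rw [← hinv, ← hyz, map_mul]
    conv_lhs => rw [← hcz]
    group
  obtain ⟨m, k, hm, hk⟩ := H4.RealZJ.exists_odd_pow_two_pow y
  have htinv : Inv (f (y ^ m)) (f x0) := by rw [map_pow]; exact H65.inverts_pow_of_odd hyinv hm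
  set t := y ^ m with ht
  have htn : t ∈ normalizer (R : Set G) := pow_mem hy m
  obtain ⟨y0, hy0, hy0fix, hy0f⟩ := exists_fixed f R hRodd k (t ^ 2)
    (by rw [← pow_mul, mul_comm, pow_mul, hk, one_pow]) (pow_mem htn 2) u huR (by
      rw [hux, map_pow]
      exact mul_inv_eq_iff_eq_mul.2 (H65.commute_sq_of_inverts htinv).eq)
  set w := y0⁻¹ * (t * y0 * t⁻¹) with hw
  have hwR : w ∈ R := R.mul_mem (R.inv_mem hy0) ((mem_normalizer_iff.1 htn y0).1 hy0)
  have hwinv : Inv t w := by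
    show t * (y0⁻¹ * (t * y0 * t⁻¹)) * t⁻¹ = (y0⁻¹ * (t * y0 * t⁻¹))⁻¹
    calc t * (y0⁻¹ * (t * y0 * t⁻¹)) * t⁻¹
        = (t * y0 * t⁻¹)⁻¹ * (t ^ 2 * y0 * (t ^ 2)⁻¹) := by rw [pow_two]; group
      _ = _ := by rw [hy0fix]; group
  have hfw : f w = (f x0)⁻¹ * (f x0)⁻¹ := by
    rw [hw, map_mul, map_inv, map_mul, map_mul, map_inv, hy0f, hux, htinv]
  obtain ⟨j, hj⟩ := (hro.pow : Odd (r ^ l))
  refine ⟨t, w ^ j, Odd.of_dvd_nat (Odd.of_dvd_nat hRodd (Subgroup.orderOf_dvd_natCard R hwR))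
    (orderOf_pow_dvd j), ?_, inv_pow_pow hwinv j⟩
  rw [map_pow, hfw, ← mul_inv_rev, inv_pow, ← pow_two, ← pow_mul, inv_eq_iff_mul_eq_one,
    ← pow_succ, ← hj, ← hord, pow_orderOf_eq_one]

/-- An inverted element of odd prime-power order in an image lifts to an inverted element of odd
order. -/
theorem real_lift_pow (f : G →* Q) {r l : ℕ} (hr : r.Prime) (hro : Odd r) {g x0 : G}
    (hord : orderOf (f x0) = r ^ l) (hinv : Inv (f g) (f x0)) :
    ∃ t x : G, Odd (orderOf x) ∧ f x = f x0 ∧ Inv t x := by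
  set G0 : Subgroup G := (normalizer ((zpowers (f x0)) : Set Q)).comap f with hG0
  have hx0 : x0 ∈ G0 := le_normalizer (mem_zpowers (f x0))
  have hg : g ∈ G0 := by
    rw [hG0, mem_comap, mem_normalizer_iff_map_conj_eq, MonoidHom.map_zpowers]
    show zpowers (f g * f x0 * (f g)⁻¹) = zpowers (f x0)
    rw [hinv, zpowers_inv]
  have hn : ((zpowers ((f.comp G0.subtype) ⟨x0, hx0⟩)).comap (f.comp G0.subtype)).Normal := by
    refine ⟨fun a ha c => ?_⟩
    rw [mem_comap, map_mul, map_mul, map_inv]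
    exact (mem_normalizer_iff.1 c.2 _).1 ha
  obtain ⟨t, x, hodd, hfx, hinv'⟩ := real_lift_aux (f.comp G0.subtype) hr hro
    (g := ⟨g, hg⟩) (x0 := ⟨x0, hx0⟩) hord hinv (hn := hn)
  exact ⟨t, x, by rwa [Subgroup.orderOf_coe], hfx, congrArg Subtype.val hinv'⟩

theorem real_lift (f : G →* Q) {r : ℕ} (hr : r.Prime) (hro : Odd r) {g x0 : G}
    (hord : orderOf (f x0) = r) (hinv : Inv (f g) (f x0)) :
    ∃ t x : G, Odd (orderOf x) ∧ f x = f x0 ∧ Inv t x :=
  real_lift_pow f (l := 1) hr hro (by rw [hord, pow_one]) hinv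

theorem real_lift_pow' {f : G →* Q} (hf : Function.Surjective f) {r l : ℕ} (hr : r.Prime)
    (hro : Odd r) {g x : Q} (hord : orderOf x = r ^ l) (hinv : Inv g x) :
    ∃ t y : G, Odd (orderOf y) ∧ f y = x ∧ Inv t y := by
  obtain ⟨x0, rfl⟩ := hf x
  obtain ⟨g0, rfl⟩ := hf g
  exact real_lift_pow f hr hro hord hinv

theorem real_lift' {f : G →* Q} (hf : Function.Surjective f) {r : ℕ} (hr : r.Prime) (hro : Odd r)
    {g x : Q} (hord : orderOf x = r) (hinv : Inv g x) :
    ∃ t y : G, Odd (orderOf y) ∧ f y = x ∧ Inv t y :=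
  real_lift_pow' hf (l := 1) hr hro (by rw [hord, pow_one]) hinv

/-- The image of a subgroup without inverted elements of odd order has none either. -/
theorem TwoClosed.map [Finite Q] {H : Subgroup G} (h : TwoClosed H) (f : G →* Q) :
    TwoClosed (H.map f) := by
  refine twoClosed_of_prime _ fun x hx r hr hro hord g hg hinv => ?_
  obtain ⟨x0, hx0, rfl⟩ := hx
  obtain ⟨g0, hg0, rfl⟩ := hg
  obtain ⟨t, y, hodd, hfy, hinv'⟩ := real_lift (f.comp H.subtype) hr hro
    (g := ⟨g0, hg0⟩) (x0 := ⟨x0, hx0⟩) hord hinv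
  have hy1 : (y : G) = 1 :=
    h y y.2 (by rwa [Subgroup.orderOf_coe]) t t.2 (congrArg Subtype.val hinv')
  have : f x0 = 1 := by
    rw [← show (f.comp H.subtype) y = f x0 from hfy]
    show f (y : G) = 1
    rw [hy1, map_one]
  rw [this, orderOf_one] at hord
  exact hr.ne_one hord.symm

end H3.RealGraph
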