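import Cfsg.Agent.H3.RealGraph.Module
import Cfsg.Agent.H1.Cores
import Cfsg.Agent.H35.Basic
import Cfsg.Agent.H27.SingularGraph

/-!
The sizes of the real classes are all built from primes in `π` or all from primes outside `π`:
then the group is solvable as soon as `2 ∈ π` and the second kind occurs.
-/

set_option autoImplicit false
set_option linter.style.haveILetI false

namespace H3.RealGraph

open Subgroup

/-- All prime divisors of `n` lie in `π`. -/
def PiNum (π : Set ℕ) (n : ℕ) : Prop := ∀ q : ℕ, q.Prime → q ∣ n → q ∈ π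

/-- No prime divisor of `n` lies in `π`. -/
def CoNum (π : Set ℕ) (n : ℕ) : Prop := ∀ q : ℕ, q.Prime → q ∣ n → q ∉ π

theorem coprime_pi_co {π : Set ℕ} {m n : ℕ} (hm : PiNum π m) (hn : CoNum π n) : m.Coprime n :=
  Nat.coprime_of_dvd fun q hq h1 h2 => hn q hq h2 (hm q hq h1)

theorem odd_of_coNum {π : Set ℕ} (h2 : 2 ∈ π) {n : ℕ} (hn : CoNum π n) : Odd n :=
  Nat.not_even_iff_odd.1 fun he => hn 2 Nat.prime_two he.two_dvd h2

/-- The class size. -/
noncomputable abbrev ind {G : Type*} [Group G] (x : G) : ℕ :=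
  (centralizer ({x} : Set G)).index

section

variable {G : Type*} [Group G]

theorem mem_cent_iff {u g : G} : g ∈ centralizer ({u} : Set G) ↔ g * u * g⁻¹ = u := by
  rw [mem_centralizer_singleton_iff, mul_inv_eq_iff_eq_mul]

theorem cent_pow_le (x : G) (k : ℕ) :
    centralizer ({x} : Set G) ≤ centralizer ({x ^ k} : Set G) := fun g hg =>
  mem_centralizer_singleton_iff.2 ((Commute.pow_right (mem_centralizer_singleton_iff.1 hg) k).eq)

theorem ind_pow_dvd (x : G) (k : ℕ) : ind (x ^ k) ∣ ind x := index_dvd_of_le (cent_pow_le x k)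

theorem mem_center_of_ind_eq_one {x : G} (h : ind x = 1) : x ∈ center G := by
  rw [mem_center_iff]
  intro g
  have : g ∈ centralizer ({x} : Set G) := by rw [index_eq_one.1 h]; exact mem_top g
  exact mem_centralizer_singleton_iff.1 this

theorem ind_dvd_of_hom {Q : Type*} [Group Q] {f : G →* Q} (hf : Function.Surjective f) (x : G) :
    ind (f x) ∣ ind x := by
  refine (index_dvd_of_le ?_).trans (index_map_dvd (centralizer ({x} : Set G)) hf)
  rintro _ ⟨g, hg, rfl⟩
  rw [mem_centralizer_singleton_iff, ← map_mul, ← map_mul, mem_centralizer_singleton_iff.1 hg]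

variable [Finite G]

/-- The class of a nontrivial inverted element of odd order has even size. -/
theorem two_dvd_ind {g x : G} (hodd : Odd (orderOf x)) (hx : x ≠ 1) (hinv : Inv g x) :
    2 ∣ ind x := by
  by_contra hd
  obtain ⟨m, k, -, hk, hinv'⟩ := exists_two_inverter hinv
  haveI : Fact (Nat.Prime 2) := ⟨Nat.prime_two⟩
  set t := g ^ m
  set C := centralizer ({x} : Set G)
  -- `t` permutes the conjugates of `x` by inversion
  have hinvol : ∀ s ∈ (ConjClasses.mk x).carrier, s⁻¹ ∈ (ConjClasses.mk x).carrier := by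
    intro s hs
    rw [ConjClasses.mem_carrier_iff_mk_eq, ConjClasses.mk_eq_mk_iff_isConj] at hs ⊢
    refine IsConj.trans ?_ (isConj_iff.2 ⟨t, hinv'⟩ : IsConj x x⁻¹).symm
    obtain ⟨c, hc⟩ := isConj_iff.1 hs
    exact isConj_iff.2 ⟨c, by rw [← hc]; group⟩
  let e : (ConjClasses.mk x).carrier → (ConjClasses.mk x).carrier := fun s => ⟨(s : G)⁻¹,
    hinvol s s.2⟩
  have he2 : ∀ s, e (e s) = s := fun s => Subtype.ext (inv_inv _)
  have hefree : ∀ s, e s ≠ s := by
    rintro ⟨s, hs⟩ he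
    have h1 : s⁻¹ = s := congrArg Subtype.val he
    rw [ConjClasses.mem_carrier_iff_mk_eq, ConjClasses.mk_eq_mk_iff_isConj] at hs
    obtain ⟨c, hc⟩ := isConj_iff.1 hs.symm
    apply hx
    refine eq_one_of_odd_sq hodd ?_
    have h2 : x * x = c⁻¹ * (s * s) * c := by rw [← hc]; group
    rw [h2]
    nth_rewrite 1 [← h1]
    rw [inv_mul_cancel, mul_one, inv_mul_cancel]
  have hcard : Nat.card (ConjClasses.mk x).carrier = C.index := H27.card_carrier_eq_index x
  classical
  have := Fintype.ofFinite (ConjClasses.mk x).carrier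
  let σ : Equiv.Perm (ConjClasses.mk x).carrier := Function.Involutive.toPerm e he2
  have hsum : Even (Fintype.card (ConjClasses.mk x).carrier) := by
    have h1 : σ ^ 2 = 1 := Equiv.ext fun s => he2 s
    have h2 := Equiv.Perm.two_dvd_card_support h1
    have h3 : σ.support = Finset.univ :=
      Finset.eq_univ_of_forall fun s => Equiv.Perm.mem_support.2 (hefree s)
    rw [h3, Finset.card_univ] at h2
    exact even_iff_two_dvd.2 h2
  rw [← Nat.card_eq_fintype_card, hcard] at hsum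
  exact hd hsum.two_dvd

/-- A real `2`-element of class size prime to `π` has a `2`-closed centralizer. -/
theorem twoClosed_centralizer_of_coNum {π : Set ℕ} (h2 : 2 ∈ π)
    (hpure : ∀ g x : G, Inv g x → PiNum π (ind x) ∨ CoNum π (ind x))
    {u h : G} {k : ℕ} (hu : u ^ (2 ^ k) = 1) (hreal : Inv h u) (hco : CoNum π (ind u))
    (hne : ind u ≠ 1) : TwoClosed (centralizer ({u} : Set G)) := by
  intro x hx hodd g hg hinv
  by_contra hx1
  have hpi : PiNum π (ind x) := (hpure g x hinv).resolve_right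
    fun hc => hc 2 Nat.prime_two (two_dvd_ind hodd hx1 hinv) h2
  obtain ⟨c, hc, d, hd, rfl⟩ :=
    H1.exists_mul_eq_of_coprime_index _ _ (coprime_pi_co hpi hco) h
  have hcu : c * u * c⁻¹ = u⁻¹ := by
    have h1 := mem_cent_iff.1 hd
    calc c * u * c⁻¹ = c * (d * u * d⁻¹) * c⁻¹ := by rw [h1]
      _ = c * d * u * (c * d)⁻¹ := by group
      _ = u⁻¹ := hreal
  have hxu : Commute x u := mem_centralizer_singleton_iff.1 hx
  have hcg : Inv (c * g) (x * u) := by
    have h1 : g * u * g⁻¹ = u := mem_cent_iff.1 hg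
    have h2' : c * x⁻¹ * c⁻¹ = x⁻¹ := by
      rw [(Commute.inv_right (mem_centralizer_singleton_iff.1 hc)).eq, mul_inv_cancel_right]
    show c * g * (x * u) * (c * g)⁻¹ = (x * u)⁻¹
    calc c * g * (x * u) * (c * g)⁻¹ = c * ((g * x * g⁻¹) * (g * u * g⁻¹)) * c⁻¹ := by group
      _ = (c * x⁻¹ * c⁻¹) * (c * u * c⁻¹) := by rw [hinv, h1]; group
      _ = x⁻¹ * u⁻¹ := by rw [h2', hcu]
      _ = (x * u)⁻¹ := by rw [mul_inv_rev, hxu.inv_inv.eq]
  have hle : centralizer ({x * u} : Set G) ≤ centralizer ({x} : Set G) ∧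
      centralizer ({x * u} : Set G) ≤ centralizer ({u} : Set G) := by
    obtain ⟨a, b, hab⟩ : ∃ a b : ℤ, (2 ^ k : ℤ) * a + (orderOf x : ℤ) * b = 1 := by
      have hco2 : Nat.Coprime (2 ^ k) (orderOf x) :=
        Nat.Coprime.pow_left k (Nat.coprime_two_left.2 hodd)
      refine ⟨Nat.gcdA (2 ^ k) (orderOf x), Nat.gcdB (2 ^ k) (orderOf x), ?_⟩
      have := Nat.gcd_eq_gcd_ab (2 ^ k) (orderOf x)
      rw [Nat.Coprime.gcd_eq_one hco2] at this
      push_cast at this
      exact this.symm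
    have h1 : (x * u) ^ ((2 ^ k : ℤ) * a) = x := by
      rw [hxu.mul_zpow]
      have e1 : u ^ ((2 ^ k : ℤ) * a) = 1 := by
        rw [zpow_mul, show ((2 : ℤ) ^ k) = ((2 ^ k : ℕ) : ℤ) by push_cast; rfl, zpow_natCast, hu,
          one_zpow]
      rw [e1, mul_one]
      conv_rhs => rw [← zpow_one x, ← hab, zpow_add, zpow_mul x (orderOf x : ℤ), zpow_natCast,
        pow_orderOf_eq_one, one_zpow, mul_one]
    have hsub : ∀ z ∈ centralizer ({x * u} : Set G), z ∈ centralizer ({x} : Set G) := by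
      intro z hz
      rw [mem_centralizer_singleton_iff]
      conv_lhs => rw [← h1]
      conv_rhs => rw [← h1]
      exact (Commute.zpow_right (mem_centralizer_singleton_iff.1 hz) _).eq
    refine ⟨hsub, fun z hz => ?_⟩
    rw [mem_centralizer_singleton_iff]
    have h3 : Commute z (x⁻¹ * (x * u)) :=
      (Commute.inv_right (mem_centralizer_singleton_iff.1 (hsub z hz))).mul_right
        (mem_centralizer_singleton_iff.1 hz)
    rw [inv_mul_cancel_left] at h3
    exact h3.eq
  obtain ⟨q, hq, hqd⟩ := Nat.exists_prime_and_dvd hne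
  rcases hpure _ _ hcg with hp | hp
  · exact hco q hq hqd (hp q hq (hqd.trans (index_dvd_of_le hle.2)))
  · exact hp 2 Nat.prime_two ((two_dvd_ind hodd hx1 hinv).trans (index_dvd_of_le hle.1)) h2

/-- Real `2`-elements of a quotient by a normal subgroup of odd order lift. -/
theorem lift_two {Q : Type*} [Group Q] {f : G →* Q} (hf : Function.Surjective f)
    (hker : Odd (Nat.card f.ker)) {g u : Q} {k : ℕ} (hu : u ^ (2 ^ k) = 1) (hinv : Inv g u) :
    ∃ v h : G, ∃ l : ℕ, f v = u ∧ v ^ (2 ^ l) = 1 ∧ Inv h v ∧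
      (centralizer ({v} : Set G)).map f = centralizer ({u} : Set Q) := by
  haveI : Fact (Nat.Prime 2) := ⟨Nat.prime_two⟩
  obtain ⟨u0, rfl⟩ := hf u
  obtain ⟨g0, rfl⟩ := hf g
  obtain ⟨m, l, ⟨j, hm⟩, hl⟩ := H4.RealZJ.exists_odd_pow_two_pow u0
  -- a power of the `2`-part has the given image
  obtain ⟨i, hi⟩ : ∃ i : ℕ, f ((u0 ^ m) ^ i) = f u0 := by
    have hcop : m.Coprime (2 ^ k) :=
      Nat.Coprime.pow_right k (Nat.coprime_two_right.2 ⟨j, hm⟩)
    have hord : (orderOf (f u0)).Coprime m :=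
      (hcop.coprime_dvd_right (orderOf_dvd_of_pow_eq_one hu)).symm
    obtain ⟨i, hi⟩ := exists_pow_eq_self_of_coprime hord.symm
    exact ⟨i, by rw [map_pow, map_pow]; exact hi⟩
  set v := (u0 ^ m) ^ i with hv
  have hvl : v ^ (2 ^ l) = 1 := by rw [hv, ← pow_mul, mul_comm, pow_mul, hl, one_pow]
  have hcop : (Nat.card f.ker).Coprime 2 := Nat.coprime_two_right.2 hker
  obtain ⟨a, -, ha⟩ := (Nat.dvd_prime_pow Nat.prime_two).1 (orderOf_dvd_of_pow_eq_one hvl)
  have hp : IsPGroup 2 (zpowers v) := IsPGroup.of_card (n := a) (by rw [Nat.card_zpowers, ha])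
  have key : ∀ w e : G, f (e * v * e⁻¹) = f w → w ∈ zpowers v →
      ∃ n : G, f n = 1 ∧ n * (e * v * e⁻¹) * n⁻¹ = w := by
    intro w e hfw hw
    have hA : IsPGroup 2 (zpowers (e * v * e⁻¹)) := IsPGroup.of_card (n := a) (by
      rw [Nat.card_zpowers, ← ha]
      exact (MulAut.conj e).orderOf_eq v)
    obtain ⟨n, hn, hn'⟩ := H35.exists_conj_mem_of_le_sup f.ker hcop hA hp (by
      rw [zpowers_le]
      have h1 : w⁻¹ * (e * v * e⁻¹) ∈ f.ker := by
        rw [MonoidHom.mem_ker, map_mul, map_inv, hfw, inv_mul_cancel]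
      have h2 := mul_mem (mem_sup_left hw : w ∈ zpowers v ⊔ f.ker) (mem_sup_right h1)
      rwa [mul_inv_cancel_left] at h2)
    refine ⟨n, hn, ?_⟩
    have h3 := hn' _ (mem_zpowers _)
    -- two powers of `v` with the same image
    have h4 : (n * (e * v * e⁻¹) * n⁻¹) * w⁻¹ ∈ f.ker := by
      rw [MonoidHom.mem_ker, map_mul, map_mul, map_mul, map_inv, map_inv, hn, hfw]
      simp
    have h5 : (n * (e * v * e⁻¹) * n⁻¹) * w⁻¹ ∈ zpowers v := mul_mem h3 (inv_mem hw)
    rw [← mul_inv_eq_one, ← orderOf_eq_one_iff]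
    refine Nat.eq_one_of_dvd_coprimes (Nat.Coprime.pow_right a hcop)
      (Subgroup.orderOf_dvd_natCard _ h4) ?_
    exact ha ▸ orderOf_dvd_of_mem_zpowers h5
  obtain ⟨n, hn, hn'⟩ := key v⁻¹ g0 (by
    rw [map_mul, map_mul, map_inv, map_inv, hi]; exact hinv) (inv_mem (mem_zpowers v))
  refine ⟨v, n * g0, l, hi, hvl, ?_, ?_⟩
  · show n * g0 * v * (n * g0)⁻¹ = v⁻¹
    rw [← hn']
    group
  · refine le_antisymm ?_ ?_
    · rintro _ ⟨e, he, rfl⟩
      rw [mem_centralizer_singleton_iff, ← hi, ← map_mul, ← map_mul,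
        mem_centralizer_singleton_iff.1 he]
    · intro e he
      obtain ⟨e0, rfl⟩ := hf e
      obtain ⟨n', hn1, hn2⟩ := key v e0 (by
        rw [map_mul, map_mul, map_inv, hi]; exact mem_cent_iff.1 he) (mem_zpowers v)
      refine ⟨n' * e0, mem_cent_iff.2 ?_, by rw [map_mul, hn1, one_mul]⟩
      calc n' * e0 * v * (n' * e0)⁻¹ = n' * (e0 * v * e0⁻¹) * n'⁻¹ := by group
        _ = v := hn2

end

/-- The facts about the quotient by the odd core. -/
structure QuotHyp (π : Set ℕ) (Q : Type*) [Group Q] [Finite Q] (y gy : Q) : Prop where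
  two : 2 ∈ π
  core : ∀ N : Subgroup Q, N.Normal → Odd (Nat.card N) → N = ⊥
  pure2 : ∀ (u g : Q) (k : ℕ), u ^ (2 ^ k) = 1 → Inv g u → PiNum π (ind u) ∨ CoNum π (ind u)
  closed : ∀ (u g : Q) (k : ℕ), u ^ (2 ^ k) = 1 → Inv g u → ind u ≠ 1 → CoNum π (ind u) →
    TwoClosed (centralizer ({u} : Set Q))
  oddPi' : ∀ (r l : ℕ) (x g : Q), r.Prime → Odd r → orderOf x = r ^ l → x ≠ 1 → Inv g x →
    PiNum π (ind x)
  real : Inv gy y
  four : y ^ 4 = 1
  sq : y ^ 2 ∈ center Q
  ne : ind y ≠ 1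
  co : CoNum π (ind y)

namespace QuotHyp

variable {π : Set ℕ} {Q : Type*} [Group Q] [Finite Q] {y gy : Q} (h : QuotHyp π Q y gy)

include h

theorem oddPi (r : ℕ) (x g : Q) (hr : r.Prime) (hro : Odd r) (hx : orderOf x = r)
    (hinv : Inv g x) : PiNum π (ind x) := by
  refine h.oddPi' r 1 x g hr hro (by rw [hx, pow_one]) ?_ hinv
  rintro rfl
  rw [orderOf_one] at hx
  exact hr.ne_one hx.symm

theorem twoClosed : TwoClosed (centralizer ({y} : Set Q)) :=
  h.closed y gy 2 h.four h.real h.ne h.co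

theorem sq_eq (g : Q) : (g * y * g⁻¹) ^ 2 = y ^ 2 := by
  rw [conj_pow, mem_center_iff.1 h.sq g, mul_inv_cancel_right]

theorem diff_inv (g : Q) : Inv y (y⁻¹ * (g * y * g⁻¹)) := by
  show y * (y⁻¹ * (g * y * g⁻¹)) * y⁻¹ = (y⁻¹ * (g * y * g⁻¹))⁻¹
  have h1 := h.sq_eq g
  rw [pow_two, pow_two] at h1
  calc y * (y⁻¹ * (g * y * g⁻¹)) * y⁻¹
      = (g * y * g⁻¹)⁻¹ * ((g * y * g⁻¹) * (g * y * g⁻¹)) * y⁻¹ := by group
    _ = _ := by rw [h1]; group

/-- `y` and its conjugates lie in the `2`-core. -/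
theorem mem_pCore : y ∈ Cfsg.pCore 2 Q := by
  haveI : Fact (Nat.Prime 2) := ⟨Nat.prime_two⟩
  refine H65.mem_pCore_of_pairs fun g => ?_
  set a := y⁻¹ * (g * y * g⁻¹) with ha
  have hinv : Inv y a := h.diff_inv g
  obtain ⟨k, m, hm, hkm⟩ := Nat.exists_eq_two_pow_mul_odd (orderOf_pos a).ne'
  have hx : a ^ (2 ^ k) = 1 := by
    by_contra hx1
    have hxodd : Odd (orderOf (a ^ (2 ^ k))) := by
      refine hm.of_dvd_nat (orderOf_dvd_of_pow_eq_one ?_)
      rw [← pow_mul, ← hkm, pow_orderOf_eq_one]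
    obtain ⟨i, r, hr, hro, hord, hxinv⟩ :=
      exists_prime_power hx1 hxodd (inv_pow_pow hinv (2 ^ k))
    set x := (a ^ (2 ^ k)) ^ i with hxdef
    have hall : ∀ e : Q, Inv (e * y * e⁻¹) x := by
      intro e
      obtain ⟨c, hc, d, hd, rfl⟩ := H1.exists_mul_eq_of_coprime_index _ _
        (coprime_pi_co (h.oddPi r x y hr hro hord hxinv) h.co) e
      show c * d * y * (c * d)⁻¹ * x * (c * d * y * (c * d)⁻¹)⁻¹ = x⁻¹
      have h1 := mem_cent_iff.1 hc
      have h2 := mem_cent_iff.1 hd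
      have h1' : c⁻¹ * x * c = x := by nth_rewrite 1 [← h1]; group
      calc c * d * y * (c * d)⁻¹ * x * (c * d * y * (c * d)⁻¹)⁻¹
          = c * ((d * y * d⁻¹) * (c⁻¹ * x * c) * (d * y * d⁻¹)⁻¹) * c⁻¹ := by group
        _ = c * x⁻¹ * c⁻¹ := by rw [h2, h1', hxinv]
        _ = (c * x * c⁻¹)⁻¹ := by group
        _ = x⁻¹ := by rw [h1]
    set S : Set Q := {z | ∃ e e' : Q, z = (e * y * e⁻¹)⁻¹ * (e' * y * e'⁻¹)} with hS
    set N := Subgroup.closure S with hN
    have hNx : N ≤ centralizer ({x} : Set Q) := by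
      rw [hN, Subgroup.closure_le]
      rintro _ ⟨e, e', rfl⟩
      rw [SetLike.mem_coe, mem_cent_iff]
      calc (e * y * e⁻¹)⁻¹ * (e' * y * e'⁻¹) * x * ((e * y * e⁻¹)⁻¹ * (e' * y * e'⁻¹))⁻¹
          = (e * y * e⁻¹)⁻¹ * ((e' * y * e'⁻¹) * x * (e' * y * e'⁻¹)⁻¹) * (e * y * e⁻¹) := by
            group
        _ = (e * y * e⁻¹)⁻¹ * ((e * y * e⁻¹) * x * (e * y * e⁻¹)⁻¹) * (e * y * e⁻¹) := by
            rw [hall e', hall e]
        _ = x := by group
    have hNn : N.Normal := by
      refine ⟨fun z hz c => ?_⟩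
      refine (Subgroup.closure_le (K := N.comap (MulAut.conj c).toMonoidHom)).2 ?_ hz
      rintro _ ⟨e, e', rfl⟩
      refine Subgroup.subset_closure ⟨c * e, c * e', ?_⟩
      show c * ((e * y * e⁻¹)⁻¹ * (e' * y * e'⁻¹)) * c⁻¹ = _
      group
    have hxN : x ∈ N := by
      refine N.pow_mem (N.pow_mem ?_ _) _
      refine Subgroup.subset_closure ⟨1, g, ?_⟩
      rw [ha, one_mul, inv_one, mul_one]
    -- the central elements of odd order of `N`
    let M : Subgroup Q :=
      { carrier := {z | z ∈ N ∧ (∀ w ∈ N, Commute z w) ∧ Odd (orderOf z)}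
        one_mem' := ⟨N.one_mem, fun w _ => Commute.one_left w, by simp⟩
        mul_mem' := fun {z w} hz hw => ⟨N.mul_mem hz.1 hw.1,
          fun v hv => (hz.2.1 v hv).mul_left (hw.2.1 v hv),
          (hz.2.2.mul hw.2.2).of_dvd_nat (hz.2.1 w hw.1).orderOf_mul_dvd_mul_orderOf⟩
        inv_mem' := fun {z} hz => ⟨N.inv_mem hz.1, fun v hv => (hz.2.1 v hv).inv_left,
          by rw [orderOf_inv]; exact hz.2.2⟩ }
    have hMn : M.Normal := by
      refine ⟨fun z hz c => ⟨hNn.conj_mem z hz.1 c, fun w hw => ?_, ?_⟩⟩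
      · have h1 := hz.2.1 (c⁻¹ * w * c) (by simpa using hNn.conj_mem w hw c⁻¹)
        show c * z * c⁻¹ * w = w * (c * z * c⁻¹)
        calc c * z * c⁻¹ * w = c * (z * (c⁻¹ * w * c)) * c⁻¹ := by group
          _ = c * ((c⁻¹ * w * c) * z) * c⁻¹ := by rw [h1.eq]
          _ = w * (c * z * c⁻¹) := by group
      · rw [show orderOf (c * z * c⁻¹) = orderOf z from (MulAut.conj c).orderOf_eq z]
        exact hz.2.2
    have hModd : Odd (Nat.card M) := by
      by_contra hev
      rw [Nat.not_odd_iff_even, even_iff_two_dvd] at hev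
      obtain ⟨⟨z, hz⟩, hz2⟩ := exists_prime_orderOf_dvd_card' 2 hev
      rw [Subgroup.orderOf_mk] at hz2
      have := hz.2.2
      rw [hz2] at this
      exact absurd this (by decide)
    have hxM : x ∈ M := ⟨hxN, fun w hw => (mem_centralizer_singleton_iff.1 (hNx hw) :
      Commute w x).symm, hord ▸ hro⟩
    rw [h.core M hMn hModd, mem_bot] at hxM
    rw [hxM, orderOf_one] at hord
    exact hr.ne_one hord.symm
  obtain ⟨i, -, hi⟩ := (Nat.dvd_prime_pow Nat.prime_two).1 (orderOf_dvd_of_pow_eq_one hx)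
  obtain ⟨j, -, hj⟩ := (Nat.dvd_prime_pow Nat.prime_two).1
    (orderOf_dvd_of_pow_eq_one (show y ^ (2 ^ 2) = 1 from h.four))
  have hp : IsPGroup 2 ↥(zpowers a ⊔ zpowers y) := by
    refine IsPGroup.to_sup_of_normal_left' (IsPGroup.of_card (n := i) (by
      rw [Nat.card_zpowers, hi])) (IsPGroup.of_card (n := j) (by rw [Nat.card_zpowers, hj]))
      (zpowers_le.2 ?_)
    rw [mem_normalizer_iff_map_conj_eq, MonoidHom.map_zpowers]
    show zpowers (y * a * y⁻¹) = zpowers a
    rw [hinv, zpowers_inv]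
  refine hp.to_le ((Subgroup.closure_le _).2 ?_)
  rintro z (rfl | rfl)
  · exact mem_sup_right (mem_zpowers _)
  · have := mul_mem (mem_sup_right (mem_zpowers y) : y ∈ zpowers a ⊔ zpowers y)
      (mem_sup_left (mem_zpowers a))
    rwa [ha, mul_inv_cancel_left] at this

theorem commute_conj (e e' : Q) : Commute (e * y * e⁻¹) (e' * y * e'⁻¹) := by
  haveI : Fact (Nat.Prime 2) := ⟨Nat.prime_two⟩
  haveI hn : (Cfsg.pCore 2 Q).Normal := H1.pCore_normal' 2 Q
  have hF : Cfsg.pCore 2 Q ≤ centralizer ({y} : Set Q) := by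
    obtain ⟨S⟩ := (inferInstance : Nonempty (Sylow 2 (centralizer ({y} : Set Q))))
    set T := (S : Subgroup (centralizer ({y} : Set Q))).map (centralizer ({y} : Set Q)).subtype
    have hT : ¬ 2 ∣ T.index := by
      rw [index_map_subtype]
      exact Nat.Prime.not_dvd_mul Nat.prime_two S.not_dvd_index
        (fun hd => (Nat.not_even_iff_odd.2 (odd_of_coNum h.two h.co)) (even_iff_two_dvd.2 hd))
    exact (H1.pCore_le_sylow ((S.isPGroup'.map _).toSylow hT)).trans (map_subtype_le _)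
  have h1 : (e⁻¹ * e') * y * (e⁻¹ * e')⁻¹ ∈ centralizer ({y} : Set Q) :=
    hF (hn.conj_mem y h.mem_pCore _)
  have h2 := mem_centralizer_singleton_iff.1 h1
  show e * y * e⁻¹ * (e' * y * e'⁻¹) = e' * y * e'⁻¹ * (e * y * e⁻¹)
  calc e * y * e⁻¹ * (e' * y * e'⁻¹)
      = e * (y * ((e⁻¹ * e') * y * (e⁻¹ * e')⁻¹)) * e⁻¹ := by group
    _ = e * (((e⁻¹ * e') * y * (e⁻¹ * e')⁻¹) * y) * e⁻¹ := by rw [h2]
    _ = e' * y * e'⁻¹ * (e * y * e⁻¹) := by group

omit h in
/-- The subgroup generated by the quotients of two conjugates of `y`. -/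
def diffs (y : Q) : Subgroup Q :=
  Subgroup.closure {z | ∃ e e' : Q, z = (e * y * e⁻¹)⁻¹ * (e' * y * e'⁻¹)}

omit h [Finite Q] in
theorem diffs_normal (y : Q) : (diffs y).Normal := by
  refine ⟨fun z hz c => ?_⟩
  refine (Subgroup.closure_le (K := (diffs y).comap (MulAut.conj c).toMonoidHom)).2 ?_ hz
  rintro _ ⟨e, e', rfl⟩
  refine Subgroup.subset_closure ⟨c * e, c * e', ?_⟩
  show c * ((e * y * e⁻¹)⁻¹ * (e' * y * e'⁻¹)) * c⁻¹ = _
  group

theorem commute_conj_diffs (e : Q) {a : Q} (ha : a ∈ diffs y) :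
    Commute (e * y * e⁻¹) a := by
  have : diffs y ≤ centralizer ({e * y * e⁻¹} : Set Q) := by
    rw [diffs, Subgroup.closure_le]
    rintro _ ⟨e1, e2, rfl⟩
    exact mem_centralizer_singleton_iff.2
      (((h.commute_conj e1 e).inv_left).mul_left (h.commute_conj e2 e)).eq
  exact (mem_centralizer_singleton_iff.1 (this ha) : Commute a _).symm

theorem commute_diffs {a b : Q} (ha : a ∈ diffs y) (hb : b ∈ diffs y) : Commute a b := by
  have : diffs y ≤ centralizer ({a} : Set Q) := by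
    rw [diffs, Subgroup.closure_le]
    rintro _ ⟨e1, e2, rfl⟩
    exact mem_centralizer_singleton_iff.2
      (((h.commute_conj_diffs e1 ha).inv_left).mul_left (h.commute_conj_diffs e2 ha)).eq
  exact (mem_centralizer_singleton_iff.1 (this hb) : Commute b a).symm

theorem diffs_sq {a : Q} (ha : a ∈ diffs y) : a * a = 1 := by
  refine Subgroup.closure_induction (p := fun z _ => z * z = 1) ?_ (one_mul 1) ?_ ?_ ha
  · rintro _ ⟨e, e', rfl⟩
    have hc : Commute (e * y * e⁻¹)⁻¹ (e' * y * e'⁻¹) := (h.commute_conj e e').inv_left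
    rw [← pow_two, hc.mul_pow, inv_pow, h.sq_eq, h.sq_eq, inv_mul_cancel]
  · intro a b ha' hb' ea eb
    rw [mul_assoc, ← mul_assoc b, (h.commute_diffs hb' ha').eq, mul_assoc a b b, eb, mul_one, ea]
  · intro a _ ea
    rw [← mul_inv_rev, ea, inv_one]

/-- A noncentral element of `diffs y` has class size prime to `π`. -/
theorem diffs_closed {a : Q} (ha : a ∈ diffs y) (hne : ind a ≠ 1) :
    CoNum π (ind a) ∧ TwoClosed (centralizer ({a} : Set Q)) := by
  have ha2 := h.diffs_sq ha
  have hainv : Inv 1 a := by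
    show 1 * a * 1⁻¹ = a⁻¹
    rw [one_mul, inv_one, mul_one, inv_eq_of_mul_eq_one_right ha2]
  have ha1 : a ^ (2 ^ 1) = 1 := by rw [pow_one, pow_two, ha2]
  suffices hco : CoNum π (ind a) from ⟨hco, h.closed a 1 1 ha1 hainv hne hco⟩
  refine (h.pure2 a 1 1 ha1 hainv).resolve_left fun hpi => ?_
  have hcop : (ind a).Coprime (ind y) := coprime_pi_co hpi h.co
  have hay : Commute a y := by
    have := h.commute_conj_diffs 1 ha
    rw [one_mul, inv_one, mul_one] at this
    exact this.symm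
  obtain ⟨c, hc, d, hd, hcd⟩ := H1.exists_mul_eq_of_coprime_index _ _ hcop gy
  have hcy : c * y * c⁻¹ = y⁻¹ := by
    calc c * y * c⁻¹ = c * (d * y * d⁻¹) * c⁻¹ := by rw [mem_cent_iff.1 hd]
      _ = gy * y * gy⁻¹ := by rw [hcd]; group
      _ = y⁻¹ := h.real
  have hinv : Inv c (a * y) := by
    show c * (a * y) * c⁻¹ = (a * y)⁻¹
    calc c * (a * y) * c⁻¹ = (c * a * c⁻¹) * (c * y * c⁻¹) := by group
      _ = a⁻¹ * y⁻¹ := by rw [mem_cent_iff.1 hc, hcy, inv_eq_of_mul_eq_one_right ha2]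
      _ = _ := by rw [mul_inv_rev, hay.inv_inv.eq]
  have h4 : (a * y) ^ (2 ^ 2) = 1 := by
    rw [hay.mul_pow, show y ^ (2 ^ 2) = 1 from h.four, mul_one, show 2 ^ 2 = 2 * 2 from rfl, pow_mul,
      pow_two a, ha2, one_pow]
  obtain ⟨hdvd, hmapY, hleY⟩ := H27.index_mul_facts hay hcop
  obtain ⟨-, hmapA, hleA⟩ := H27.index_mul_facts hay.symm hcop.symm
  rw [← hay.eq] at hmapA hleA
  have hconj : ∀ z e : Q, e * z * e⁻¹ ∈ (ConjClasses.mk z).carrier := fun z e => by
    rw [ConjClasses.mem_carrier_iff_mk_eq, ConjClasses.mk_eq_mk_iff_isConj]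
    exact (isConj_iff.2 ⟨e, rfl⟩ : IsConj z _).symm
  have hclass : ∀ {z s : Q}, s ∈ (ConjClasses.mk z).carrier → ∃ e : Q, s = e * z * e⁻¹ := by
    intro z s hs
    rw [ConjClasses.mem_carrier_iff_mk_eq, ConjClasses.mk_eq_mk_iff_isConj] at hs
    obtain ⟨e, he⟩ := isConj_iff.1 hs.symm
    exact ⟨e, he.symm⟩
  -- the left stabilizer of a set
  have stab : ∀ (S : Set Q), ∃ T : Subgroup Q, ∀ t : Q, t ∈ T ↔ ∀ s, s ∈ S ↔ t * s ∈ S := by
    intro S
    refine ⟨{ carrier := {t | ∀ s, s ∈ S ↔ t * s ∈ S}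
              one_mem' := fun s => by rw [one_mul]
              mul_mem' := fun {t t'} ht ht' s => by rw [ht' s, ht (t' * s), mul_assoc]
              inv_mem' := fun {t} ht s => by rw [ht (t⁻¹ * s), mul_inv_cancel_left] },
      fun t => Iff.rfl⟩
  have full : ∀ (S : Set Q) (t : Q), (∀ s ∈ S, t * s ∈ S) → ∀ s, s ∈ S ↔ t * s ∈ S := by
    intro S t ht s
    refine ⟨ht s, fun hs => ?_⟩
    have hp : ∀ n : ℕ, t ^ n * (t * s) ∈ S := by
      intro n
      induction n with
      | zero => rwa [pow_zero, one_mul]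
      | succ n ih => rw [pow_succ', mul_assoc]; exact ht _ ih
    have := hp (orderOf t - 1)
    rwa [← mul_assoc, ← pow_succ, Nat.sub_add_cancel (orderOf_pos t), pow_orderOf_eq_one,
      one_mul] at this
  rcases h.pure2 (a * y) c 2 h4 hinv with hp | hp
  · -- the class of `a * y` is the translate by `y` of the class of `a`
    have hdvd' : ind (a * y) ∣ ind a := (coprime_pi_co hp h.co).dvd_of_dvd_mul_right hdvd
    have hcard : ind (a * y) = ind a :=
      le_antisymm (Nat.le_of_dvd (Nat.pos_of_ne_zero index_ne_zero_of_finite) hdvd') hleA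
    have hsurj : Function.Surjective (fun s : (ConjClasses.mk a).carrier =>
        (⟨y * s, hmapA s s.2⟩ : (ConjClasses.mk (a * y)).carrier)) := by
      refine (Function.Injective.bijective_of_nat_card_le
        (fun s t e => Subtype.ext (mul_left_cancel (congrArg Subtype.val e))) ?_).2
      rw [H27.card_carrier_eq_index, H27.card_carrier_eq_index]
      exact hcard.le
    obtain ⟨T, hT⟩ := stab (ConjClasses.mk a).carrier
    have hgen : ∀ e : Q, y⁻¹ * (e * y * e⁻¹) ∈ T := by
      intro e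
      rw [hT]
      refine full _ _ fun s hs => ?_
      obtain ⟨f', hf'⟩ := hclass hs
      have hmem : (e * y * e⁻¹) * s ∈ (ConjClasses.mk (a * y)).carrier := by
        have hsf : e⁻¹ * s * e ∈ (ConjClasses.mk a).carrier := by
          rw [hf', show e⁻¹ * (f' * a * f'⁻¹) * e = (e⁻¹ * f') * a * (e⁻¹ * f')⁻¹ by group]
          exact hconj _ _
        obtain ⟨f'', hf''⟩ := hclass (hmapA _ hsf)
        rw [show e * y * e⁻¹ * s = e * (y * (e⁻¹ * s * e)) * e⁻¹ by group, hf'',
          show e * (f'' * (a * y) * f''⁻¹) * e⁻¹ = (e * f'') * (a * y) * (e * f'')⁻¹ by group]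
        exact hconj _ _
      obtain ⟨⟨s', hs'⟩, hs''⟩ := hsurj ⟨_, hmem⟩
      have h5 : y * s' = e * y * e⁻¹ * s := congrArg Subtype.val hs''
      rw [mul_assoc, ← h5, inv_mul_cancel_left]
      exact hs'
    have hle : diffs y ≤ T := by
      rw [diffs, Subgroup.closure_le]
      rintro _ ⟨e, e', rfl⟩
      have := T.mul_mem (T.inv_mem (hgen e)) (hgen e')
      rwa [show (y⁻¹ * (e * y * e⁻¹))⁻¹ * (y⁻¹ * (e' * y * e'⁻¹)) =
        (e * y * e⁻¹)⁻¹ * (e' * y * e'⁻¹) by group] at this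
    have h6 := ((hT a).1 (hle ha) a).1 (by
      rw [ConjClasses.mem_carrier_iff_mk_eq])
    rw [ha2] at h6
    obtain ⟨e, he⟩ := hclass h6
    have : a = 1 := by
      calc a = e⁻¹ * (e * a * e⁻¹) * e := by group
        _ = 1 := by rw [← he]; group
    exact hne (by rw [this]; exact index_eq_one.2 (eq_top_iff.2 fun z _ =>
      mem_centralizer_singleton_iff.2 (by rw [mul_one, one_mul])))
  · -- the class of `a * y` is the translate by `a` of the class of `y`
    have hdvd' : ind (a * y) ∣ ind y :=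
      (coprime_pi_co hpi hp).symm.dvd_of_dvd_mul_left hdvd
    have hcard : ind (a * y) = ind y :=
      le_antisymm (Nat.le_of_dvd (Nat.pos_of_ne_zero index_ne_zero_of_finite) hdvd') hleY
    have hsurj : Function.Surjective (fun s : (ConjClasses.mk y).carrier =>
        (⟨a * s, hmapY s s.2⟩ : (ConjClasses.mk (a * y)).carrier)) := by
      refine (Function.Injective.bijective_of_nat_card_le
        (fun s t e => Subtype.ext (mul_left_cancel (congrArg Subtype.val e))) ?_).2
      rw [H27.card_carrier_eq_index, H27.card_carrier_eq_index]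
      exact hcard.le
    apply hne
    rw [index_eq_one, eq_top_iff]
    intro e _
    rw [mem_cent_iff]
    set t := a⁻¹ * (e * a * e⁻¹) with ht
    have htd : t ∈ diffs y := mul_mem (inv_mem ha) ((diffs_normal y).conj_mem a ha e)
    have hstab : ∀ s ∈ (ConjClasses.mk y).carrier, t * s ∈ (ConjClasses.mk y).carrier := by
      intro s hs
      obtain ⟨f', hf'⟩ := hclass hs
      have hmem : (e * a * e⁻¹) * s ∈ (ConjClasses.mk (a * y)).carrier := by
        have hsf : e⁻¹ * s * e ∈ (ConjClasses.mk y).carrier := by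
          rw [hf', show e⁻¹ * (f' * y * f'⁻¹) * e = (e⁻¹ * f') * y * (e⁻¹ * f')⁻¹ by group]
          exact hconj _ _
        obtain ⟨f'', hf''⟩ := hclass (hmapY _ hsf)
        rw [show e * a * e⁻¹ * s = e * (a * (e⁻¹ * s * e)) * e⁻¹ by group, hf'',
          show e * (f'' * (a * y) * f''⁻¹) * e⁻¹ = (e * f'') * (a * y) * (e * f'')⁻¹ by group]
        exact hconj _ _
      obtain ⟨⟨s', hs'⟩, hs''⟩ := hsurj ⟨_, hmem⟩
      have h5 : a * s' = e * a * e⁻¹ * s := congrArg Subtype.val hs''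
      rw [ht, mul_assoc, ← h5, inv_mul_cancel_left]
      exact hs'
    obtain ⟨T, hT⟩ := stab (ConjClasses.mk y).carrier
    have htT : zpowers t ≤ T := zpowers_le.2 ((hT t).2 (full _ _ hstab))
    have hdvdY := H27.card_dvd_of_mul_invariant (zpowers t) (ConjClasses.mk y).carrier
      fun b hb s hs => (((hT b).1 (htT hb)) s).1 hs
    rw [H27.card_carrier_eq_index, Nat.card_zpowers] at hdvdY
    have : orderOf t = 1 := Nat.eq_one_of_dvd_coprimes
      (Nat.coprime_two_left.2 (odd_of_coNum h.two h.co))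
      (orderOf_dvd_of_pow_eq_one (by rw [pow_two, h.diffs_sq htd])) hdvdY
    rw [orderOf_eq_one_iff, ht, inv_mul_eq_one] at this
    exact this.symm

/-- A group with these properties is solvable. -/
theorem isSolvable : Group.IsSolvable Q := by
  haveI : Fact (Nat.Prime 2) := ⟨Nat.prime_two⟩
  by_contra hns
  -- a noncentral element of `diffs y`
  obtain ⟨a₀, ha₀, ha₀c⟩ : ∃ a ∈ diffs y, a ∉ center Q := by
    have hnc : ¬ TwoClosed (⊤ : Subgroup Q) := by
      intro hcl
      haveI := hcl.isSolvable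
      exact hns (Group.isSolvable_of_surjective (f := (⊤ : Subgroup Q).subtype)
        fun x => ⟨⟨x, mem_top x⟩, rfl⟩)
    rw [TwoClosed] at hnc
    push Not at hnc
    obtain ⟨x0, -, hodd, g, -, hinv0, hx0⟩ := hnc
    obtain ⟨i, r, hr, hro, hord, hinv⟩ := exists_prime_power hx0 hodd hinv0
    set x := x0 ^ i
    refine ⟨y⁻¹ * (x * y * x⁻¹), Subgroup.subset_closure ⟨1, x, by rw [one_mul, inv_one, mul_one]⟩,
      fun hc => ?_⟩
    obtain ⟨c, hc', d, hd, rfl⟩ := H1.exists_mul_eq_of_coprime_index _ _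
      (coprime_pi_co (h.oddPi r x _ hr hro hord hinv) h.co) g
    set t := y⁻¹ * (x * y * x⁻¹) with ht
    have hxy : x * y * x⁻¹ = y * t := by rw [ht, mul_inv_cancel_left]
    have hpow : ∀ n : ℕ, x ^ n * y * (x ^ n)⁻¹ = y * t ^ n := by
      intro n
      induction n with
      | zero => simp
      | succ n ih =>
        calc x ^ (n + 1) * y * (x ^ (n + 1))⁻¹ = x * (x ^ n * y * (x ^ n)⁻¹) * x⁻¹ := by
              rw [pow_succ']; group
          _ = (x * y * x⁻¹) * (x * t ^ n * x⁻¹) := by rw [ih]; group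
          _ = y * t * t ^ n := by
              rw [hxy, mem_center_iff.1 ((center Q).pow_mem hc n) x, mul_inv_cancel_right]
          _ = y * t ^ (n + 1) := by rw [pow_succ', mul_assoc]
    have h1 := hpow r
    rw [← hord, pow_orderOf_eq_one, one_mul, inv_one, mul_one, hord] at h1
    have h2 : t ^ r = 1 := mul_left_cancel (h1.symm.trans (mul_one y).symm)
    have h3 : t = 1 := by
      rw [← orderOf_eq_one_iff]
      refine Nat.eq_one_of_dvd_coprimes (Nat.coprime_two_left.2 hro) ?_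
        (orderOf_dvd_of_pow_eq_one h2)
      refine orderOf_dvd_of_pow_eq_one ?_
      rw [pow_two]
      exact h.diffs_sq (Subgroup.subset_closure ⟨1, x, by rw [ht, one_mul, inv_one, mul_one]⟩)
    rw [h3, mul_one] at hxy
    have hxC : x ∈ centralizer ({y} : Set Q) := mem_cent_iff.2 hxy
    have hdinv : Inv d x := by
      show d * x * d⁻¹ = x⁻¹
      have hcx : Commute c x⁻¹ := Commute.inv_right (mem_centralizer_singleton_iff.1 hc')
      calc d * x * d⁻¹ = c⁻¹ * (c * d * x * (c * d)⁻¹) * c := by group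
        _ = c⁻¹ * x⁻¹ * c := by rw [hinv]
        _ = x⁻¹ := by rw [mul_assoc, ← hcx.eq, inv_mul_cancel_left]
    have h4 := h.twoClosed x hxC (hord ▸ hro) d hd hdinv
    rw [h4, orderOf_one] at hord
    exact hr.ne_one hord.symm
  have hclosed : ∀ a ∈ diffs y, a ∉ center Q →
      CoNum π (ind a) ∧ TwoClosed (centralizer ({a} : Set Q)) := fun a ha hac =>
    h.diffs_closed ha fun e => hac (mem_center_of_ind_eq_one e)
  -- fixing a coset of the center means centralizing
  have hfix : ∀ a ∈ diffs y, a ∉ center Q → ∀ g : Q, a⁻¹ * (g * a * g⁻¹) ∈ center Q →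
      g ∈ centralizer ({a} : Set Q) := by
    intro a ha hac g hgc
    set t := a⁻¹ * (g * a * g⁻¹) with ht
    have htd : t ∈ diffs y := mul_mem (inv_mem ha) ((diffs_normal y).conj_mem a ha g)
    have hinvar : ∀ b ∈ zpowers t, ∀ s ∈ (ConjClasses.mk a).carrier,
        b * s ∈ (ConjClasses.mk a).carrier := by
      have h1 : ∀ s ∈ (ConjClasses.mk a).carrier, t * s ∈ (ConjClasses.mk a).carrier := by
        intro s hs
        rw [ConjClasses.mem_carrier_iff_mk_eq, ConjClasses.mk_eq_mk_iff_isConj] at hs ⊢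
        obtain ⟨e, he⟩ := isConj_iff.1 hs.symm
        refine (isConj_iff.2 ⟨e * g, ?_⟩ : IsConj a _).symm
        calc e * g * a * (e * g)⁻¹ = e * (a * t) * e⁻¹ := by rw [ht]; group
          _ = (e * a * e⁻¹) * (e * t * e⁻¹) := by group
          _ = s * t := by rw [he, mem_center_iff.1 hgc e, mul_inv_cancel_right]
          _ = t * s := mem_center_iff.1 hgc s
      intro b hb
      obtain ⟨n, rfl⟩ := exists_npow hb
      induction n with
      | zero => intro s hs; rwa [pow_zero, one_mul]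
      | succ n ih =>
        intro s hs
        rw [pow_succ', mul_assoc]
        exact h1 _ (ih (pow_mem (mem_zpowers t) n) s hs)
    have hdvd := H27.card_dvd_of_mul_invariant (zpowers t) _ hinvar
    rw [H27.card_carrier_eq_index, Nat.card_zpowers] at hdvd
    have ht1 : t = 1 := by
      rw [← orderOf_eq_one_iff]
      exact Nat.eq_one_of_dvd_coprimes
        (Nat.coprime_two_left.2 (odd_of_coNum h.two (hclosed a ha hac).1))
        (orderOf_dvd_of_pow_eq_one (by rw [pow_two, h.diffs_sq htd])) hdvd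
    rw [ht, inv_mul_eq_one] at ht1
    exact mem_cent_iff.2 ht1.symm
  haveI := diffs_normal y
  set p := QuotientGroup.mk' (center Q) with hp
  have hp_eq : ∀ u v : Q, p u = p v ↔ u⁻¹ * v ∈ center Q := fun u v => QuotientGroup.eq
  set W := (diffs y).map p with hW
  haveI : W.Normal := Subgroup.Normal.map inferInstance p (QuotientGroup.mk'_surjective _)
  letI : CommGroup W :=
    { (inferInstance : Group W) with
      mul_comm := by
        rintro ⟨_, u, hu, rfl⟩ ⟨_, v, hv, rfl⟩
        exact Subtype.ext (by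
          show p u * p v = p v * p u
          rw [← map_mul, ← map_mul, (h.commute_diffs hu hv).eq]) }
  let φ : Q →* MulAut W := MulAut.conjNormal.comp p
  have hφ : ∀ (g : Q) (w : W), ((φ g w : W) : Q ⧸ center Q) = p g * w * (p g)⁻¹ := fun g w => rfl
  let ψ : Q →* φ.range := φ.rangeRestrict
  have hψs : Function.Surjective ψ := φ.rangeRestrict_surjective
  have hact : ∀ (g : Q) (a : Q) (ha : a ∈ diffs y),
      (ψ g • (⟨p a, mem_map_of_mem p ha⟩ : W) = ⟨p a, mem_map_of_mem p ha⟩) ↔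
        a⁻¹ * (g * a * g⁻¹) ∈ center Q := by
    intro g a ha
    rw [← hp_eq, eq_comm]
    show _ = φ g ⟨p a, _⟩ ↔ _
    rw [Subtype.ext_iff, hφ, map_mul, map_mul, map_inv]
  have hpc : ∀ a : Q, p a = 1 ↔ a ∈ center Q := fun a => QuotientGroup.eq_one_iff a
  have hstab : ∀ w : W, w ≠ 1 → ∃ a : Q, a ∈ diffs y ∧ a ∉ center Q ∧
      MulAction.stabilizer φ.range w = (centralizer ({a} : Set Q)).map ψ := by
    rintro ⟨_, a, ha, rfl⟩ hw
    have hac : a ∉ center Q := fun hc => hw (Subtype.ext ((hpc a).2 hc))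
    refine ⟨a, ha, hac, le_antisymm ?_ ?_⟩
    · intro γ hγ
      obtain ⟨g, rfl⟩ := hψs γ
      exact mem_map_of_mem ψ (hfix a ha hac g ((hact g a ha).1 hγ))
    · rintro _ ⟨g, hg, rfl⟩
      refine MulAction.mem_stabilizer_iff.2 ((hact g a ha).2 ?_)
      rw [mem_cent_iff.1 hg, inv_mul_cancel]
      exact one_mem _
  haveI : Group.IsSolvable φ.range := by
    refine ModHyp.isSolvable (W := W) ⟨?_, ?_, ?_, ?_, ?_, ?_⟩
    · rintro ⟨_, a, ha, rfl⟩
      exact Subtype.ext (by show p a * p a = 1; rw [← map_mul, h.diffs_sq ha, map_one])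
    · intro g hg
      exact Subtype.ext (MulEquiv.ext hg)
    · exact ⟨⟨p a₀, mem_map_of_mem p ha₀⟩, fun e => ha₀c ((hpc a₀).1 (congrArg Subtype.val e))⟩
    · intro w hw
      obtain ⟨a, ha, hac, he⟩ := hstab w hw
      rw [he]
      exact (hclosed a ha hac).2.map ψ
    · intro w hw
      obtain ⟨a, ha, hac, he⟩ := hstab w hw
      rw [he]
      exact (odd_of_coNum h.two (hclosed a ha hac).1).of_dvd_nat (index_map_dvd _ hψs)
    · intro r x g hr hro hord hinv w hw
      obtain ⟨a, ha, hac, he⟩ := hstab w hw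
      obtain ⟨t, x', hodd', hx', hinv'⟩ := real_lift' hψs hr hro hord hinv
      -- pass to an element of prime order with the same image
      have hx'1 : x' ≠ 1 := by
        rintro rfl
        rw [map_one] at hx'
        rw [← hx', orderOf_one] at hord
        exact hr.ne_one hord.symm
      obtain ⟨z, l, hl, hzx, hzinv⟩ : ∃ z : Q, ∃ l : ℕ, orderOf z = r ^ l ∧ ψ z = x ∧ Inv t z := by
        obtain ⟨u, v, huv, ⟨e, he'⟩, hvcop, humem, hvmem⟩ :=
          H5.exists_p_decomposition (p := r) (hp := ⟨hr⟩) x'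
        have hv1 : ψ v = 1 := by
          rw [← orderOf_eq_one_iff]
          refine Nat.eq_one_of_dvd_coprimes hvcop (orderOf_map_dvd ψ v) ?_
          rw [← hord, ← hx']
          refine orderOf_dvd_of_mem_zpowers ?_
          rw [← MonoidHom.map_zpowers]
          exact mem_map_of_mem _ hvmem
        obtain ⟨l, -, hl⟩ := (Nat.dvd_prime_pow hr).1 (orderOf_dvd_of_pow_eq_one he')
        refine ⟨u, l, hl, by rw [← hx', huv, map_mul, hv1, mul_one], ?_⟩
        obtain ⟨k, hk⟩ := mem_zpowers_iff.1 humem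
        show t * u * t⁻¹ = u⁻¹
        rw [← hk, ← conj_zpow, hinv', inv_zpow]
      have hz1 : z ≠ 1 := by
        rintro rfl
        rw [map_one] at hzx
        rw [← hzx, orderOf_one] at hord
        exact hr.ne_one hord.symm
      have hpiz : PiNum π (ind z) := h.oddPi' r l z t hr hro hl hz1 hzinv
      rw [he]
      exact ((coprime_pi_co hpiz (hclosed a ha hac).1).coprime_dvd_left
        (hzx ▸ ind_dvd_of_hom hψs z)).coprime_dvd_right (index_map_dvd _ hψs)
  have hker : φ.ker ≤ centralizer ({a₀} : Set Q) := by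
    intro g hg
    refine hfix a₀ ha₀ ha₀c g ((hact g a₀ ha₀).1 ?_)
    have : ψ g = 1 := Subtype.ext hg
    rw [this, one_smul]
  haveI := (hclosed a₀ ha₀ ha₀c).2.isSolvable
  haveI : Group.IsSolvable φ.ker :=
    Group.isSolvable_of_isSolvable_injective (Subgroup.inclusion_injective hker)
  exact hns (Group.isSolvable_of_ker_le_range φ.ker.subtype φ.rangeRestrict
    (by rw [MonoidHom.ker_rangeRestrict, range_subtype]))

end QuotHyp

/-- If `2 ∈ π`, every real class size is a `π`-number or prime to `π`, and one of them is not `1`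
and prime to `π`, then the group is solvable. -/
theorem isSolvable_of_pure {G : Type*} [Group G] [Finite G] {π : Set ℕ} (h2 : 2 ∈ π)
    (hpure : ∀ g x : G, Inv g x → PiNum π (ind x) ∨ CoNum π (ind x))
    (hco : ∃ g x : G, Inv g x ∧ ind x ≠ 1 ∧ CoNum π (ind x)) : Group.IsSolvable G := by
  haveI : Fact (Nat.Prime 2) := ⟨Nat.prime_two⟩
  have hinvsq : ∀ g x : G, Inv g x → ∀ k : ℕ, Inv g (x ^ k) := fun g x h k => inv_pow_pow h k
  have hOodd : ∀ g x : G, Inv g x → Odd (orderOf x) → x ≠ 1 → PiNum π (ind x) :=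
    fun g x hi ho h1 => (hpure g x hi).resolve_right
      fun hc => hc 2 Nat.prime_two (two_dvd_ind ho h1 hi) h2
  -- such an element is a `2`-element; choose one of least order
  classical
  have hex : ∃ n : ℕ, ∃ g x : G, Inv g x ∧ ind x ≠ 1 ∧ CoNum π (ind x) ∧ orderOf x = n := by
    obtain ⟨g, x, h1, h2', h3⟩ := hco
    exact ⟨_, g, x, h1, h2', h3, rfl⟩
  obtain ⟨gy, y, hy, hyne, hyco, hyord⟩ := Nat.find_spec hex
  have hmin : ∀ k : ℕ, orderOf (y ^ k) < orderOf y → ind (y ^ k) = 1 := by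
    intro k hk
    by_contra hne
    rw [hyord] at hk
    exact Nat.find_min hex hk ⟨gy, y ^ k, hinvsq _ _ hy k, hne,
      fun q hq hqd => hyco q hq (hqd.trans (ind_pow_dvd y k)), rfl⟩
  obtain ⟨a, m, hm, ham⟩ := Nat.exists_eq_two_pow_mul_odd (orderOf_pos y).ne'
  have hy2 : y ^ (2 ^ a) = 1 := by
    by_contra hne
    have hodd : Odd (orderOf (y ^ (2 ^ a))) := hm.of_dvd_nat (orderOf_dvd_of_pow_eq_one (by
      rw [← pow_mul, ← ham, pow_orderOf_eq_one]))
    exact hyco 2 Nat.prime_two ((two_dvd_ind hodd hne (hinvsq _ _ hy _)).trans (ind_pow_dvd y _)) h2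
  have hsq : y ^ 2 ∈ center G := by
    by_cases hy1 : y = 1
    · rw [hy1, one_pow]; exact one_mem _
    refine mem_center_of_ind_eq_one (hmin 2 ?_)
    obtain ⟨e, -, he⟩ := (Nat.dvd_prime_pow Nat.prime_two).1 (orderOf_dvd_of_pow_eq_one hy2)
    rw [orderOf_pow, he]
    rcases e with _ | e
    · exact absurd (orderOf_eq_one_iff.1 (he.trans (pow_zero 2))) hy1
    · rw [Nat.gcd_eq_right (dvd_pow_self 2 e.succ_ne_zero), pow_succ, Nat.mul_div_cancel _ two_pos]
      have := Nat.one_le_two_pow (n := e)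
      omega
  have h4 : y ^ 4 = 1 := by
    have h1 : gy * y ^ 2 * gy⁻¹ = (y ^ 2)⁻¹ := hinvsq _ _ hy 2
    rw [mem_center_iff.1 hsq gy, mul_inv_cancel_right] at h1
    rw [show (4 : ℕ) = 2 + 2 from rfl, pow_add]
    nth_rewrite 2 [h1]
    exact mul_inv_cancel _
  -- the quotient by the odd core
  haveI := H1.pPrimeCore_normal' 2 G
  set f := QuotientGroup.mk' (Cfsg.pPrimeCore 2 G) with hf
  have hfs : Function.Surjective f := QuotientGroup.mk'_surjective _
  have hker : Odd (Nat.card f.ker) := by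
    rw [hf, QuotientGroup.ker_mk']
    exact Nat.coprime_two_right.1 (H1.card_pPrimeCore_coprime 2 G)
  haveI : Group.IsSolvable f.ker := H16.FT.oddOrder hker
  suffices hQ : Group.IsSolvable (G ⧸ Cfsg.pPrimeCore 2 G) by
    haveI := hQ
    exact Group.isSolvable_of_ker_le_range f.ker.subtype f (by rw [range_subtype])
  have hlift := fun (g u : G ⧸ Cfsg.pPrimeCore 2 G) (k : ℕ) (hu : u ^ (2 ^ k) = 1)
    (hi : Inv g u) => lift_two hfs hker hu hi
  have hpure2 : ∀ (u g : G ⧸ Cfsg.pPrimeCore 2 G) (k : ℕ), u ^ (2 ^ k) = 1 → Inv g u →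
      ∀ v h : G, f v = u → Inv h v →
      (PiNum π (ind v) → PiNum π (ind u)) ∧ (CoNum π (ind v) → CoNum π (ind u)) := by
    intro u g k _ _ v h hv _
    subst hv
    exact ⟨fun hp q hq hd => hp q hq (hd.trans (ind_dvd_of_hom hfs v)),
      fun hp q hq hd => hp q hq (hd.trans (ind_dvd_of_hom hfs v))⟩
  by_cases hy1 : ind (f y) = 1
  · -- the image of `y` is central
    have hcl : TwoClosed (centralizer ({y} : Set G)) :=
      twoClosed_centralizer_of_coNum h2 hpure hy2 hy hyco hyne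
    obtain ⟨v, h, l, hv, hvl, hvinv, hvmap⟩ := hlift (f gy) (f y) a (by rw [← map_pow, hy2, map_one])
      (hy.map f)
    by_cases hv1 : ind v = 1
    · -- `v` central forces `y` central
      exfalso
      apply hyne
      rw [index_eq_one, eq_top_iff]
      intro g _
      rw [mem_cent_iff]
      have hyv : v⁻¹ * y ∈ f.ker := by rw [MonoidHom.mem_ker, map_mul, map_inv, hv, inv_mul_cancel]
      have hvc := mem_center_iff.1 (mem_center_of_ind_eq_one hv1)
      -- `v⁻¹ * y` is a `2`-element of the odd core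
      have h5 : (v⁻¹ * y) ^ (2 ^ (l + a)) = 1 := by
        have hc : Commute v⁻¹ y := (Commute.inv_left (hvc y).symm)
        rw [hc.mul_pow, inv_pow, pow_add, pow_mul, hvl, one_pow, inv_one, one_mul, mul_comm,
          pow_mul, hy2, one_pow]
      have h6 : v⁻¹ * y = 1 := by
        rw [← orderOf_eq_one_iff]
        exact Nat.eq_one_of_dvd_coprimes (Nat.Coprime.pow_right (l + a)
          (Nat.coprime_two_right.2 hker)) (Subgroup.orderOf_dvd_natCard _ hyv)
          (orderOf_dvd_of_pow_eq_one h5)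
      rw [← inv_mul_eq_one.1 h6, hvc g, mul_inv_cancel_right]
    · have hvco : CoNum π (ind v) := by
        refine (hpure h v hvinv).resolve_left fun hp => ?_
        have hvy : ∃ n ∈ f.ker, ∀ b ∈ zpowers v, n * b * n⁻¹ ∈ zpowers y := by
          obtain ⟨e1, -, he1⟩ := (Nat.dvd_prime_pow Nat.prime_two).1 (orderOf_dvd_of_pow_eq_one hvl)
          obtain ⟨e2, -, he2⟩ := (Nat.dvd_prime_pow Nat.prime_two).1 (orderOf_dvd_of_pow_eq_one hy2)
          refine H35.exists_conj_mem_of_le_sup f.ker (Nat.coprime_two_right.2 hker)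
            (IsPGroup.of_card (n := e1) (by rw [Nat.card_zpowers, he1]))
            (IsPGroup.of_card (n := e2) (by rw [Nat.card_zpowers, he2])) ?_
          rw [zpowers_le]
          have h7 : y⁻¹ * v ∈ f.ker := by
            rw [MonoidHom.mem_ker, map_mul, map_inv, hv, inv_mul_cancel]
          have h8 := mul_mem (mem_sup_left (mem_zpowers y) : y ∈ zpowers y ⊔ f.ker) (mem_sup_right h7)
          rwa [mul_inv_cancel_left] at h8
        obtain ⟨n, -, hn⟩ := hvy
        obtain ⟨i, hi⟩ := exists_npow (hn v (mem_zpowers v))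
        have hdvd : ind v ∣ ind y := by
          have h9 : ind (n * v * n⁻¹) = ind v := by
            show (centralizer ({n * v * n⁻¹} : Set G)).index = (centralizer ({v} : Set G)).index
            rw [← H27.card_carrier_eq_index, ← H27.card_carrier_eq_index,
              ConjClasses.mk_eq_mk_iff_isConj.2 (isConj_iff.2 ⟨n, rfl⟩ : IsConj v _).symm]
          rw [← h9, ← hi]
          exact ind_pow_dvd y i
        obtain ⟨q, hq, hqd⟩ := Nat.exists_prime_and_dvd hv1
        exact hyco q hq (hqd.trans hdvd) (hp q hq hqd)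
      have hcv := (twoClosed_centralizer_of_coNum h2 hpure hvl hvinv hvco hv1).map f
      rw [hvmap, index_eq_one.1 hy1] at hcv
      haveI := hcv.isSolvable
      exact Group.isSolvable_of_surjective (f := (⊤ : Subgroup (G ⧸ Cfsg.pPrimeCore 2 G)).subtype)
        fun x => ⟨⟨x, mem_top x⟩, rfl⟩
  refine QuotHyp.isSolvable (π := π) (y := f y) (gy := f gy) ⟨h2, ?_, ?_, ?_, ?_, hy.map f,
    by rw [← map_pow, h4, map_one], ?_, hy1,
    fun q hq hd => hyco q hq (hd.trans (ind_dvd_of_hom hfs y))⟩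
  · intro N hN hodd
    haveI := hN
    have := H1.le_pPrimeCore (p := 2) (N := N) (Nat.coprime_two_right.2 hodd)
    rwa [H1.pPrimeCore_quotient_pPrimeCore, le_bot_iff] at this
  · intro u g k hu hi
    obtain ⟨v, h, l, hv, -, hvinv, -⟩ := hlift g u k hu hi
    obtain ⟨h1, h2'⟩ := hpure2 u g k hu hi v h hv hvinv
    exact (hpure h v hvinv).imp h1 h2'
  · intro u g k hu hi hne hcou
    obtain ⟨v, h, l, hv, hvl, hvinv, hvmap⟩ := hlift g u k hu hi
    obtain ⟨h1, -⟩ := hpure2 u g k hu hi v h hv hvinv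
    rw [← hvmap]
    refine (twoClosed_centralizer_of_coNum h2 hpure hvl hvinv ((hpure h v hvinv).resolve_left
      fun hp => ?_) fun e => hne (Nat.dvd_one.1 (e ▸ hv ▸ ind_dvd_of_hom hfs v))).map f
    obtain ⟨q, hq, hqd⟩ := Nat.exists_prime_and_dvd hne
    exact hcou q hq hqd (h1 hp q hq hqd)
  · intro r l x g hr hro hord hx1 hinv
    obtain ⟨t, z, hodd, hz, hzinv⟩ := real_lift_pow' hfs hr hro hord hinv
    subst hz
    exact fun q hq hd => hOodd t z hzinv hodd (fun e => hx1 (by rw [e, map_one])) q hq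
      (hd.trans (ind_dvd_of_hom hfs z))
  · rw [← map_pow]
    exact mem_center_iff.2 fun g => by
      obtain ⟨g0, rfl⟩ := hfs g
      rw [← map_mul, ← map_mul, mem_center_iff.1 hsq g0]

end H3.RealGraph
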