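import Cfsg.Agent.H3.RealGraph.SylowTorus
import Cfsg.Agent.H76.Zsigmondy
import Cfsg.Agent.H1.Wielandt

/-!
A group acting on an elementary abelian `2`-group in which every nonidentity vector has a
`2`-closed stabilizer of odd index, prime to the indices of centralizers of inverted elements of
odd order, is solvable.
-/

set_option autoImplicit false
set_option linter.style.haveILetI false

namespace H3.RealGraph

open Subgroup

variable (Γ W : Type*) [Group Γ] [Finite Γ] [CommGroup W] [Finite W] [MulDistribMulAction Γ W]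

/-- The hypothesis on the action. -/
structure ModHyp : Prop where
  exp : ∀ w : W, w * w = 1
  faithful : ∀ g : Γ, (∀ w : W, g • w = w) → g = 1
  nt : ∃ w : W, w ≠ 1
  closed : ∀ w : W, w ≠ 1 → TwoClosed (MulAction.stabilizer Γ w)
  oddIndex : ∀ w : W, w ≠ 1 → Odd (MulAction.stabilizer Γ w).index
  cop : ∀ (r : ℕ) (x g : Γ), r.Prime → Odd r → orderOf x = r → Inv g x → ∀ w : W, w ≠ 1 →
    (centralizer ({x} : Set Γ)).index.Coprime (MulAction.stabilizer Γ w).index

variable {Γ W}

/-- The fixed vectors of a set. -/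
def fixSub (S : Set Γ) : Subgroup W where
  carrier := {v | ∀ g ∈ S, g • v = v}
  one_mem' := fun g _ => smul_one g
  mul_mem' := fun ha hb g hg => by rw [smul_mul', ha g hg, hb g hg]
  inv_mem' := fun ha g hg => by rw [smul_inv', ha g hg]

omit [Finite Γ] [Finite W] in
theorem mem_fixSub {S : Set Γ} {v : W} : v ∈ fixSub S ↔ ∀ g ∈ S, g • v = v := Iff.rfl

omit [Finite W] [MulDistribMulAction Γ W] in
theorem exists_npow {a c : Γ} (hc : c ∈ zpowers a) : ∃ k : ℕ, a ^ k = c := by
  obtain ⟨k, hk⟩ := mem_powers_iff_mem_zpowers.2 hc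
  exact ⟨k, hk⟩

namespace ModHyp

variable (h : ModHyp Γ W)

include h

theorem inv_eq (v : W) : v⁻¹ = v := inv_eq_of_mul_eq_one_right (h.exp v)

theorem isPGroup : IsPGroup 2 W := fun v => ⟨1, by rw [pow_one, pow_two, h.exp]⟩

theorem fpf_prime {r : ℕ} {x g : Γ} (hr : r.Prime) (hro : Odd r) (hx : orderOf x = r)
    (hinv : Inv g x) {w : W} (hw : w ≠ 1) : x • w ≠ w := by
  intro hfix
  obtain ⟨c, hc, d, hd, hgd⟩ := H1.exists_mul_eq_of_coprime_index _ _ (h.cop r x g hr hro hx hinv w hw) g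
  have hd' : Inv d x := by
    show d * x * d⁻¹ = x⁻¹
    have hcx : Commute c x⁻¹ := (commute_of_mem_centralizer hc).inv_right
    calc d * x * d⁻¹ = c⁻¹ * (g * x * g⁻¹) * c := by rw [hgd]; group
      _ = c⁻¹ * x⁻¹ * c := by rw [hinv]
      _ = x⁻¹ := by rw [mul_assoc, ← hcx.eq, inv_mul_cancel_left]
  have h1 := h.closed w hw x hfix (hx ▸ hro) d hd hd'
  rw [h1, orderOf_one] at hx
  exact hr.ne_one hx.symm

theorem fpf {x g : Γ} (hodd : Odd (orderOf x)) (hx : x ≠ 1) (hinv : Inv g x) {w : W} (hw : w ≠ 1) :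
    x • w ≠ w := by
  intro hfix
  obtain ⟨k, r, hr, hro, hord, hinv'⟩ := exists_prime_power hx hodd hinv
  exact h.fpf_prime hr hro hord hinv' hw
    (MulAction.mem_stabilizer_iff.1 ((MulAction.stabilizer Γ w).pow_mem hfix k))

theorem exists_sylow_le {w : W} (hw : w ≠ 1) :
    ∃ P : Sylow 2 Γ, (P : Subgroup Γ) ≤ MulAction.stabilizer Γ w := by
  haveI : Fact (Nat.Prime 2) := ⟨Nat.prime_two⟩
  obtain ⟨S⟩ := (inferInstance : Nonempty (Sylow 2 (MulAction.stabilizer Γ w)))
  set T := (S : Subgroup (MulAction.stabilizer Γ w)).map (MulAction.stabilizer Γ w).subtype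
  have hT : ¬ 2 ∣ T.index := by
    rw [index_map_subtype]
    exact Nat.Prime.not_dvd_mul Nat.prime_two S.not_dvd_index
      (fun hd => (Nat.not_even_iff_odd.2 (h.oddIndex w hw)) (even_iff_two_dvd.2 hd))
  exact ⟨(S.isPGroup'.map _).toSylow hT, map_subtype_le _⟩

theorem sylow_unique {w : W} (hw : w ≠ 1) {P Q : Sylow 2 Γ}
    (hP : (P : Subgroup Γ) ≤ MulAction.stabilizer Γ w)
    (hQ : (Q : Subgroup Γ) ≤ MulAction.stabilizer Γ w) : P = Q := by
  refine Sylow.ext (Q.is_maximal' P.isPGroup' fun u hu => ?_)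
  obtain ⟨n, hn⟩ := Q.isPGroup' ⟨u, hu⟩
  exact (h.closed w hw).mem_sylow hP (hQ hu) (congrArg Subtype.val hn)

theorem exists_fixed_vector (P : Sylow 2 Γ) :
    ∃ w : W, w ≠ 1 ∧ (P : Subgroup Γ) ≤ MulAction.stabilizer Γ w := by
  haveI : Fact (Nat.Prime 2) := ⟨Nat.prime_two⟩
  obtain ⟨v, hv⟩ := h.nt
  haveI : Nontrivial W := ⟨⟨v, 1, hv⟩⟩
  obtain ⟨d, hd⟩ := h.isPGroup.exists_card_eq
  have hdvd : 2 ∣ Nat.card W := by
    rcases d with _ | d
    · rw [pow_zero] at hd
      exact absurd hd (Finite.one_lt_card_iff_nontrivial.2 inferInstance).ne'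
    · rw [hd]; exact dvd_pow_self 2 d.succ_ne_zero
  obtain ⟨w, hw, hw1⟩ := P.isPGroup'.exists_fixed_point_of_prime_dvd_card_of_fixed_point W hdvd
    (a := 1) (fun u => smul_one (u : Γ))
  exact ⟨w, fun e => hw1 e.symm, fun u hu => hw ⟨u, hu⟩⟩

omit h in
theorem smul_le_stabilizer {P : Sylow 2 Γ} {w : W}
    (hP : (P : Subgroup Γ) ≤ MulAction.stabilizer Γ w) (g : Γ) :
    ((g • P : Sylow 2 Γ) : Subgroup Γ) ≤ MulAction.stabilizer Γ (g • w) := by
  intro u hu
  rw [Sylow.coe_subgroup_smul, mem_pointwise_smul_iff_inv_smul_mem] at hu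
  have h1 := MulAction.mem_stabilizer_iff.1 (hP hu)
  simp only [MulAut.smul_def, MulAut.inv_def, MulAut.conj_symm_apply] at h1
  rw [MulAction.mem_stabilizer_iff]
  calc u • g • w = g • (g⁻¹ * u * g) • w := by rw [← mul_smul, ← mul_smul]; congr 1; group
    _ = g • w := by rw [h1]

theorem card_sylow_dvd {w : W} (hw : w ≠ 1) :
    Nat.card (Sylow 2 Γ) ∣ (MulAction.stabilizer Γ w).index := by
  haveI : Fact (Nat.Prime 2) := ⟨Nat.prime_two⟩
  obtain ⟨P, hP⟩ := h.exists_sylow_le hw
  rw [Sylow.card_eq_index_normalizer P]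
  exact index_dvd_of_le ((h.closed w hw).le_normalizer hP)

theorem sylHyp : SylHyp Γ := by
  haveI : Fact (Nat.Prime 2) := ⟨Nat.prime_two⟩
  refine ⟨?_, ?_, ?_⟩
  · rw [eq_bot_iff]
    intro g hg
    refine mem_bot.2 (h.faithful g fun w => ?_)
    by_cases hw : w = 1
    · rw [hw, smul_one]
    obtain ⟨P, hP⟩ := h.exists_sylow_le hw
    exact hP (H1.pCore_le_sylow P hg)
  · intro r x g hr hro hx hinv P Q
    obtain ⟨w, hw, hP⟩ := h.exists_fixed_vector P
    obtain ⟨a, rfl⟩ := MulAction.exists_smul_eq Γ P Q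
    obtain ⟨c, hc, d, hd, rfl⟩ :=
      H1.exists_mul_eq_of_coprime_index _ _ (h.cop r x g hr hro hx hinv w hw) a
    exact ⟨c, hc, by rw [mul_smul, (h.closed w hw).smul_eq hP hd]⟩
  · intro x g hodd hinv P hxP
    by_contra hx1
    obtain ⟨k, r, hr, hro, hord, hinv'⟩ := exists_prime_power hx1 hodd hinv
    set y := x ^ k with hy
    obtain ⟨w, hw, hP⟩ := h.exists_fixed_vector P
    have hyP : y • P = P :=
      MulAction.mem_stabilizer_iff.1 ((MulAction.stabilizer Γ P).pow_mem hxP k)
    have hconj : ∀ a : Γ, (a⁻¹ * y * a) • P = P := by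
      intro a
      obtain ⟨c, hc, d, hd, rfl⟩ :=
        H1.exists_mul_eq_of_coprime_index _ _ (h.cop r y g hr hro hord hinv' w hw) a
      have hcy : c⁻¹ * y * c = y := by
        rw [mul_assoc, ← (commute_of_mem_centralizer hc).eq, inv_mul_cancel_left]
      have hdP := (h.closed w hw).smul_eq hP hd
      rw [show (c * d)⁻¹ * y * (c * d) = d⁻¹ * (c⁻¹ * y * c) * d by group, hcy, mul_smul,
        mul_smul, hdP, hyP, inv_smul_eq_iff, hdP]
    obtain ⟨m, j, -, hj, htinv⟩ := exists_two_inverter hinv'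
    set t := g ^ m
    obtain ⟨Q, hQ⟩ := (IsPGroup.of_card (p := 2) (n := ((Nat.dvd_prime_pow Nat.prime_two).1
      (orderOf_dvd_of_pow_eq_one hj)).choose) (by
        rw [Nat.card_zpowers]
        exact ((Nat.dvd_prime_pow Nat.prime_two).1 (orderOf_dvd_of_pow_eq_one hj)).choose_spec.2) :
      IsPGroup 2 (zpowers t)).exists_le_sylow
    obtain ⟨a, rfl⟩ := MulAction.exists_smul_eq Γ P Q
    have hyQ : y • (a • P) = a • P := by
      have h1 := hconj a
      rw [mul_smul, mul_smul, inv_smul_eq_iff] at h1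
      exact h1
    have htQ : t ∈ ((a • P : Sylow 2 Γ) : Subgroup Γ) := hQ (mem_zpowers t)
    have hyt := conj_mem_smul htQ y
    rw [hyQ] at hyt
    have h2 : y * y ∈ ((a • P : Sylow 2 Γ) : Subgroup Γ) := by
      have h3 := mul_mem hyt (inv_mem htQ)
      have e : y * t * y⁻¹ * t⁻¹ = y * y := by
        calc y * t * y⁻¹ * t⁻¹ = y * (t * y * t⁻¹)⁻¹ := by group
          _ = y * y := by rw [htinv, inv_inv]
      rwa [e] at h3
    obtain ⟨i, hi⟩ := IsPGroup.iff_orderOf.1 (a • P).isPGroup' ⟨_, h2⟩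
    rw [Subgroup.orderOf_mk] at hi
    have h4 : orderOf (y * y) = 1 := Nat.eq_one_of_dvd_coprimes (a := 2 ^ i) (b := r)
      (Nat.Coprime.pow_left i (Nat.coprime_two_left.2 hro)) (hi ▸ dvd_rfl)
      (hord ▸ (pow_two y ▸ orderOf_pow_dvd 2))
    rw [orderOf_eq_one_iff] at h4
    have h5 := eq_one_of_odd_sq (hord ▸ hro) h4
    rw [h5, orderOf_one] at hord
    exact hr.ne_one hord.symm

/-- An involution inverting an inverted element fixes exactly a half. -/
theorem card_fix_sq {w : Γ} (hw : orderOf w = 2) :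
    Nat.card (fixSub (W := W) ({w} : Set Γ)) * Nat.card (fixSub (W := W) ({w} : Set Γ)) = Nat.card W := by
  obtain ⟨r, x, hr, hro, hx, hinv⟩ := h.sylHyp.exists_prime_inverted hw
  set U := fixSub (W := W) ({w} : Set Γ) with hU
  refine le_antisymm ?_ ?_
  · let φ : U × U → W := fun p => (p.1 : W) * x • (p.2 : W)
    have hφ : Function.Injective φ := by
      rintro ⟨a, b⟩ ⟨a', b'⟩ e
      have e' : (a : W) * x • (b : W) = (a' : W) * x • (b' : W) := e
      have h1 : (a : W) * (a' : W) = x • ((b : W) * (b' : W)) := by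
        rw [smul_mul']
        calc (a : W) * a' = ((a : W) * x • (b : W)) * a' * x • (b : W) := by
              rw [mul_right_comm _ (x • (b : W)), mul_assoc, h.exp, mul_one]
          _ = ((a' : W) * x • (b' : W)) * a' * x • (b : W) := by rw [e']
          _ = (a' : W) * a' * (x • (b : W) * x • (b' : W)) := by
              rw [mul_right_comm (a' : W) (x • (b' : W)), mul_assoc ((a' : W) * a'),
                mul_comm (x • (b' : W))]
          _ = _ := by rw [h.exp, one_mul]
      set z := (b : W) * (b' : W) with hz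
      have hzU : w • z = z := (mul_mem b.2 b'.2 : z ∈ U) w rfl
      have hxzU : w • x • z = x • z := by
        rw [← h1]
        exact (mul_mem a.2 a'.2 : (a : W) * a' ∈ U) w rfl
      have hfix : (x * x) • z = z := by
        have h2 : x⁻¹ • z = x • z := by
          rw [← hxzU]
          nth_rewrite 1 [← hzU]
          rw [← mul_smul, ← mul_smul, mul_inv_eq_iff_eq_mul.1 hinv]
        rw [mul_smul]
        nth_rewrite 1 [← h2]
        rw [smul_inv_smul]
      have hz1 : z = 1 := by
        by_contra hz1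
        refine h.fpf (x := x * x) (g := w) ?_ ?_ ?_ hz1 hfix
        · rw [← pow_two]; exact Odd.of_dvd_nat (hx ▸ hro) (orderOf_pow_dvd 2)
        · intro e1
          have := eq_one_of_odd_sq (hx ▸ hro) e1
          rw [this, orderOf_one] at hx
          exact hr.ne_one hx.symm
        · rw [← pow_two]; exact inv_pow_pow hinv 2
      have hb : b = b' := Subtype.ext (by
        rw [hz, mul_eq_one_iff_eq_inv, h.inv_eq] at hz1; exact hz1)
      subst hb
      exact Prod.ext (Subtype.ext (mul_right_cancel e')) rfl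
    have := Nat.card_le_card_of_injective φ hφ
    rwa [Nat.card_prod] at this
  · let φ : W →* W := MonoidHom.mk' (fun v => v * w • v) fun a b => by
      rw [smul_mul']; exact mul_mul_mul_comm _ _ _ _
    have hker : φ.ker ≤ U := by
      intro v hv g hg
      rw [Set.mem_singleton_iff] at hg
      subst hg
      have h1 : v * g • v = 1 := hv
      rw [mul_eq_one_iff_inv_eq, h.inv_eq] at h1
      exact h1.symm
    have hran : φ.range ≤ U := by
      rintro _ ⟨v, rfl⟩ g hg
      rw [Set.mem_singleton_iff] at hg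
      subst hg
      show g • (v * g • v) = v * g • v
      rw [smul_mul', ← mul_smul, H65.mul_self_of_two hw, one_smul, mul_comm]
    rw [← card_mul_index φ.ker, index_ker]
    exact Nat.mul_le_mul (card_le_of_le hker) (card_le_of_le hran)

omit h in
theorem stable_pow {U : Subgroup W} {a : Γ} (ha : ∀ v ∈ U, a • v ∈ U) (k : ℕ) :
    ∀ v ∈ U, a ^ k • v ∈ U := by
  induction k with
  | zero => intro v hv; rwa [pow_zero, one_smul]
  | succ k ih => intro v hv; rw [pow_succ', mul_smul]; exact ha _ (ih v hv)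

omit h in
/-- Orbits of an element of prime order on an invariant subgroup. -/
theorem card_modEq {ℓ : ℕ} [Fact ℓ.Prime] {a : Γ} (ha : orderOf a = ℓ) (U : Subgroup W)
    (hU : ∀ v ∈ U, a • v ∈ U) :
    Nat.card U ≡ Nat.card ↥(U ⊓ fixSub (W := W) ({a} : Set Γ)) [MOD ℓ] := by
  let X : SubMulAction (zpowers a) W :=
    { carrier := (U : Set W)
      smul_mem' := fun c v hv => by
        obtain ⟨k, hk⟩ := exists_npow c.2
        show (c : Γ) • v ∈ U
        rw [← hk]
        exact stable_pow hU k v hv }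
  have hp : IsPGroup ℓ (zpowers a) := IsPGroup.of_card (n := 1) (by
    rw [Nat.card_zpowers, ha, pow_one])
  have hmod := hp.card_modEq_card_fixedPoints X
  have e : Nat.card (MulAction.fixedPoints (zpowers a) X) =
      Nat.card ↥(U ⊓ fixSub (W := W) ({a} : Set Γ)) := by
    refine Nat.card_congr
      { toFun := fun v => ⟨v.1.1, v.1.2, fun g hg => by
          rw [Set.mem_singleton_iff] at hg
          subst hg
          exact congrArg Subtype.val (v.2 ⟨g, mem_zpowers g⟩)⟩
        invFun := fun v => ⟨⟨v.1, v.2.1⟩, fun c => Subtype.ext ?_⟩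
        left_inv := fun _ => rfl
        right_inv := fun _ => rfl }
    have h1 : a ∈ MulAction.stabilizer Γ v.1 := v.2.2 a rfl
    exact zpowers_le.2 h1 c.2
  rw [e] at hmod
  exact hmod

section Primitive

variable {ℓ d : ℕ} [Fact ℓ.Prime] (hd : Nat.card W = 2 ^ d)
  (hord : orderOf (2 : ZMod ℓ) = d)

omit h in
theorem dvd_of_dvd_two_pow (hord : orderOf (2 : ZMod ℓ) = d) {i j : ℕ} (hji : j ≤ i)
    (hmod : 2 ^ i ≡ 2 ^ j [MOD ℓ]) (hℓ : Odd ℓ) : d ∣ i - j := by
  rw [← hord]
  refine orderOf_dvd_of_pow_eq_one ?_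
  have h1 : ((2 ^ i : ℕ) : ZMod ℓ) = ((2 ^ j : ℕ) : ZMod ℓ) :=
    (ZMod.natCast_eq_natCast_iff _ _ _).2 hmod
  push_cast at h1
  have h2 : (2 : ZMod ℓ) ≠ 0 := by
    intro e
    have e' : ((2 : ℕ) : ZMod ℓ) = 0 := by exact_mod_cast e
    rw [ZMod.natCast_eq_zero_iff] at e'
    have := (Nat.prime_dvd_prime_iff_eq Fact.out Nat.prime_two).1 e'
    subst this
    exact absurd hℓ (by decide)
  rw [← Nat.sub_add_cancel hji, pow_add] at h1
  exact mul_right_cancel₀ (pow_ne_zero j h2) (by rw [h1, one_mul])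

variable (hℓ : Odd ℓ)

include hd hord hℓ

theorem eq_bot_or_top {a : Γ} (ha : orderOf a = ℓ) (U : Subgroup W) (hU : ∀ v ∈ U, a • v ∈ U) :
    U = ⊥ ∨ U = ⊤ := by
  haveI : Fact (Nat.Prime 2) := ⟨Nat.prime_two⟩
  have hfix : ∀ v : W, a • v = v → v = 1 := by
    set C := fixSub (W := W) ({a} : Set Γ) with hC
    have hmod := card_modEq ha (⊤ : Subgroup W) (fun _ _ => mem_top _)
    rw [top_inf_eq, ← hC, card_top, hd] at hmod
    obtain ⟨c, hc, hcard⟩ := (Nat.dvd_prime_pow Nat.prime_two).1 (hd ▸ card_subgroup_dvd_card C)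
    rw [hcard] at hmod
    have hdd := dvd_of_dvd_two_pow hord hc hmod hℓ
    intro v hv
    have hvC : v ∈ C := fun g hg => by rw [Set.mem_singleton_iff] at hg; rw [hg, hv]
    rcases Nat.eq_zero_or_pos c with h0 | h0
    · rw [h0, pow_zero] at hcard
      rw [Subgroup.card_eq_one] at hcard
      rw [hcard] at hvC
      exact hvC
    have hcd : c = d := by
      by_contra hne
      have := Nat.le_of_dvd (by omega) hdd
      omega
    rw [hcd, ← hd] at hcard
    have htop := eq_top_of_card_eq C hcard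
    have ha1 : a = 1 := h.faithful a fun u => (htop ▸ mem_top u : u ∈ C) a rfl
    rw [ha1, orderOf_one] at ha
    exact absurd ha.symm (Fact.out : ℓ.Prime).ne_one
  have hmod := card_modEq ha U hU
  have hbot : U ⊓ fixSub (W := W) ({a} : Set Γ) = ⊥ :=
    eq_bot_iff.2 fun v hv => mem_bot.2 (hfix v (hv.2 a rfl))
  rw [hbot, card_bot] at hmod
  obtain ⟨c, hc, hcard⟩ := (Nat.dvd_prime_pow Nat.prime_two).1 (hd ▸ card_subgroup_dvd_card U)
  rw [hcard, show (1 : ℕ) = 2 ^ 0 from rfl] at hmod
  have hdd := dvd_of_dvd_two_pow hord (Nat.zero_le c) hmod hℓ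
  rw [Nat.sub_zero] at hdd
  rcases Nat.eq_zero_or_pos c with h0 | h0
  · left
    rw [h0, pow_zero, Subgroup.card_eq_one] at hcard
    exact hcard
  · right
    refine eq_top_of_card_eq U ?_
    rw [hcard, hd, le_antisymm hc (Nat.le_of_dvd h0 hdd)]

theorem fix_eq_one {a : Γ} (ha : orderOf a = ℓ) {v : W} (hv : a • v = v) : v = 1 := by
  rcases h.eq_bot_or_top hd hord hℓ ha (fixSub (W := W) ({a} : Set Γ)) (fun u hu g hg => by
    rw [Set.mem_singleton_iff] at hg
    subst hg
    rw [hu g rfl, hu g rfl]) with hC | hC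
  · have : v ∈ fixSub (W := W) ({a} : Set Γ) := fun g hg => by
      rw [Set.mem_singleton_iff] at hg; rw [hg, hv]
    rwa [hC, mem_bot] at this
  · have ha1 : a = 1 := h.faithful a fun u =>
      (hC ▸ mem_top u : u ∈ fixSub (W := W) ({a} : Set Γ)) a rfl
    rw [ha1, orderOf_one] at ha
    exact absurd ha.symm (Fact.out : ℓ.Prime).ne_one

theorem centralizer_comm {a : Γ} (ha : orderOf a = ℓ) :
    ∀ u ∈ centralizer ({a} : Set Γ), ∀ v ∈ centralizer ({a} : Set Γ), Commute u v := by
  intro u hu v hv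
  obtain ⟨w0, hw0⟩ := h.nt
  let I : Subgroup W :=
    { carrier := {z | ∃ e : W →* W, (∀ ψ ∈ centralizer ({a} : Set Γ), ∀ z' : W,
        e (ψ • z') = ψ • e z') ∧ e w0 = z}
      one_mem' := ⟨1, fun ψ _ z' => (smul_one ψ).symm, rfl⟩
      mul_mem' := by
        rintro _ _ ⟨e, he, rfl⟩ ⟨e', he', rfl⟩
        exact ⟨e * e', fun ψ hψ z' => by
          rw [MonoidHom.mul_apply, he ψ hψ, he' ψ hψ, MonoidHom.mul_apply, smul_mul'], rfl⟩
      inv_mem' := by
        rintro z ⟨e, he, he0⟩
        exact ⟨e, he, by rw [he0, h.inv_eq]⟩ }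
  have hw0I : w0 ∈ I := ⟨MonoidHom.id W, fun _ _ _ => rfl, rfl⟩
  have hI : I = ⊤ := by
    refine (h.eq_bot_or_top hd hord hℓ ha I ?_).resolve_left fun hb => hw0 (mem_bot.1 (hb ▸ hw0I))
    rintro _ ⟨e, he, rfl⟩
    refine ⟨(MulDistribMulAction.toMonoidHom W a).comp e, fun ψ hψ z' => ?_, rfl⟩
    show a • e (ψ • z') = ψ • a • e z'
    rw [he ψ hψ, ← mul_smul, ← mul_smul, (commute_of_mem_centralizer hψ).eq]
  obtain ⟨e, he, he0⟩ : u • w0 ∈ I := hI ▸ mem_top _
  let Z : Subgroup W :=
    { carrier := {z | u • z = e z}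
      one_mem' := by show u • (1 : W) = e 1; rw [smul_one, map_one]
      mul_mem' := fun {x y} hx hy => by
        show u • (x * y) = e (x * y)
        rw [smul_mul', show u • x = e x from hx, show u • y = e y from hy, map_mul]
      inv_mem' := fun {x} hx => by
        show u • x⁻¹ = e x⁻¹
        rw [h.inv_eq]; exact hx }
  have hw0Z : w0 ∈ Z := he0.symm
  have hZ : Z = ⊤ := by
    refine (h.eq_bot_or_top hd hord hℓ ha Z ?_).resolve_left fun hb => hw0 (mem_bot.1 (hb ▸ hw0Z))
    intro z hz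
    show u • a • z = e (a • z)
    rw [he a (mem_centralizer_singleton_iff.2 rfl), ← show u • z = e z from hz, ← mul_smul,
      ← mul_smul, (commute_of_mem_centralizer hu).eq]
  have hue : ∀ z, u • z = e z := fun z => (hZ ▸ mem_top z : z ∈ Z)
  show u * v = v * u
  rw [← mul_inv_eq_one]
  refine h.faithful _ fun z => ?_
  have key : ∀ z : W, (u * v) • z = (v * u) • z := fun z => by
    rw [mul_smul, mul_smul, hue, he v hv, hue]
  rw [mul_smul (u * v) (v * u)⁻¹ z, key, ← mul_smul, mul_inv_cancel, one_smul]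

theorem odd_centralizer {a : Γ} (ha : orderOf a = ℓ) :
    Odd (Nat.card (centralizer ({a} : Set Γ))) := by
  haveI : Fact (Nat.Prime 2) := ⟨Nat.prime_two⟩
  by_contra hev
  rw [Nat.not_odd_iff_even, even_iff_two_dvd] at hev
  obtain ⟨⟨w, hw⟩, hw2⟩ := exists_prime_orderOf_dvd_card' 2 hev
  rw [Subgroup.orderOf_mk] at hw2
  set U := fixSub (W := W) ({w} : Set Γ) with hUdef
  have hsq := h.card_fix_sq hw2
  rw [← hUdef] at hsq
  have hinv : ∀ v ∈ U, a • v ∈ U := by
    intro v hv g hg
    rw [Set.mem_singleton_iff] at hg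
    subst hg
    rw [← mul_smul, (commute_of_mem_centralizer hw).eq, mul_smul, hv g rfl]
  rcases h.eq_bot_or_top hd hord hℓ ha U hinv with hU | hU
  · rw [hU, card_bot, mul_one] at hsq
    obtain ⟨w0, hw0⟩ := h.nt
    haveI : Nontrivial W := ⟨⟨w0, 1, hw0⟩⟩
    exact (Finite.one_lt_card_iff_nontrivial.2 inferInstance).ne hsq
  · exact H65.ne_one_of_two hw2 (h.faithful w fun u => (hU ▸ mem_top u : u ∈ U) w rfl)

theorem mem_zpowers_of_commute {a b : Γ} (ha : orderOf a = ℓ) (hb : orderOf b = ℓ)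
    (hab : Commute a b) : b ∈ zpowers a := by
  classical
  by_contra hnot
  obtain ⟨w0, hw0⟩ := h.nt
  apply hw0
  have hnorm : ∀ g : Γ, orderOf g = ℓ → ∀ v : W, ∏ j ∈ Finset.range ℓ, g ^ j • v = 1 := by
    intro g hg v
    refine h.fix_eq_one hd hord hℓ hg ?_
    rw [Finset.smul_prod']
    simp only [← mul_smul, ← pow_succ']
    have h1 := Finset.prod_range_succ' (fun j => g ^ j • v) ℓ
    have h2 := Finset.prod_range_succ (fun j => g ^ j • v) ℓ
    have e : g ^ ℓ • v = g ^ 0 • v := by rw [pow_zero, ← hg, pow_orderOf_eq_one]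
    rw [e] at h2
    exact mul_right_cancel (h1.symm.trans h2)
  have hgj : ∀ j : ℕ, orderOf (b * a ^ j) = ℓ := by
    intro j
    refine orderOf_eq_prime ?_ fun e => hnot ?_
    · rw [(hab.symm.pow_right j).mul_pow, ← pow_mul, mul_comm, pow_mul]
      conv_lhs => rw [← hb, pow_orderOf_eq_one, one_mul, hb, ← ha, pow_orderOf_eq_one, one_pow]
    · rw [mul_eq_one_iff_eq_inv.1 e]
      exact inv_mem (pow_mem (mem_zpowers a) j)
  have hprod : (∏ j ∈ Finset.range ℓ, ∏ i ∈ Finset.range ℓ, (b * a ^ j) ^ i • w0) = 1 :=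
    Finset.prod_eq_one fun j _ => hnorm _ (hgj j) w0
  rw [Finset.prod_comm, Finset.prod_eq_single 0] at hprod
  · simp only [pow_zero, one_smul, Finset.prod_const, Finset.card_range] at hprod
    obtain ⟨m, hm⟩ := hℓ
    rwa [hm, pow_succ, pow_mul, pow_two, h.exp, one_pow, one_mul] at hprod
  · intro i hi hi0
    have hai : orderOf (a ^ i) = ℓ := by
      refine orderOf_eq_prime (by rw [← pow_mul, mul_comm, pow_mul, ← ha, pow_orderOf_eq_one,
        one_pow]) fun e => hi0 ?_
      have h1 := orderOf_dvd_of_pow_eq_one e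
      rw [ha] at h1
      exact Nat.eq_zero_of_dvd_of_lt h1 (Finset.mem_range.1 hi)
    have : (∏ j ∈ Finset.range ℓ, (b * a ^ j) ^ i • w0) =
        b ^ i • ∏ j ∈ Finset.range ℓ, (a ^ i) ^ j • w0 := by
      rw [Finset.smul_prod']
      refine Finset.prod_congr rfl fun j _ => ?_
      rw [← mul_smul, (hab.symm.pow_right j).mul_pow, ← pow_mul, ← pow_mul, mul_comm j i]
    rw [this, hnorm _ hai w0, smul_one]
  · intro h0
    exact absurd (Finset.mem_range.2 (Fact.out : ℓ.Prime).pos) h0

end Primitive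

/-- The fibres of the map sending a vector to the Sylow subgroup fixing it. -/
theorem card_vectors (P : Sylow 2 Γ) :
    Nat.card W - 1 = Nat.card (Sylow 2 Γ) *
      (Nat.card (fixSub (W := W) ((P : Subgroup Γ) : Set Γ)) - 1) := by
  classical
  haveI : Fact (Nat.Prime 2) := ⟨Nat.prime_two⟩
  choose π hπ using fun w : {w : W // w ≠ 1} => h.exists_sylow_le w.2
  have hfib : ∀ Q : Sylow 2 Γ, Nat.card {w // π w = Q} =
      Nat.card (fixSub (W := W) ((Q : Subgroup Γ) : Set Γ)) - 1 := by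
    intro Q
    have e : {w // π w = Q} ≃ {v : fixSub (W := W) ((Q : Subgroup Γ) : Set Γ) // v ≠ 1} :=
      { toFun := fun w => ⟨⟨w.1.1, fun g hg => hπ w.1 (by rw [w.2]; exact hg)⟩,
          fun e => w.1.2 (congrArg Subtype.val e)⟩
        invFun := fun v => ⟨⟨v.1.1, fun e => v.2 (Subtype.ext e)⟩,
          h.sylow_unique (w := v.1.1) (fun e => v.2 (Subtype.ext e)) (hπ _) fun g hg => v.1.2 g hg⟩
        left_inv := fun _ => rfl
        right_inv := fun _ => rfl }
    rw [Nat.card_congr e]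
    have := Fintype.ofFinite (fixSub (W := W) ((Q : Subgroup Γ) : Set Γ))
    rw [Nat.card_eq_fintype_card, Nat.card_eq_fintype_card, Fintype.card_subtype_compl,
      Fintype.card_subtype_eq]
  have hsame : ∀ Q : Sylow 2 Γ, Nat.card (fixSub (W := W) ((Q : Subgroup Γ) : Set Γ)) =
      Nat.card (fixSub (W := W) ((P : Subgroup Γ) : Set Γ)) := by
    intro Q
    obtain ⟨g, rfl⟩ := MulAction.exists_smul_eq Γ P Q
    refine Nat.card_congr
      { toFun := fun v => ⟨g⁻¹ • v.1, fun u hu => ?_⟩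
        invFun := fun v => ⟨g • v.1, fun u hu => smul_le_stabilizer (fun a ha => v.2 a ha) g hu⟩
        left_inv := fun v => Subtype.ext (smul_inv_smul g v.1)
        right_inv := fun v => Subtype.ext (inv_smul_smul g v.1) }
    have h1 := v.2 _ (conj_mem_smul (SetLike.mem_coe.1 hu) g)
    calc u • g⁻¹ • (v : W) = g⁻¹ • (g * u * g⁻¹) • (v : W) := by
          rw [← mul_smul, ← mul_smul]; congr 1; group
      _ = g⁻¹ • (v : W) := by rw [h1]
  have hW : Nat.card {w : W // w ≠ 1} = Nat.card W - 1 := by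
    have := Fintype.ofFinite W
    rw [Nat.card_eq_fintype_card, Nat.card_eq_fintype_card, Fintype.card_subtype_compl,
      Fintype.card_subtype_eq]
  rw [← hW, ← Nat.card_congr (Equiv.sigmaFiberEquiv π)]
  have := Fintype.ofFinite (Sylow 2 Γ)
  rw [Nat.card_sigma, Finset.sum_congr rfl (fun Q _ => (hfib Q).trans (by rw [hsame Q])),
    Finset.sum_const, Finset.card_univ, smul_eq_mul, ← Nat.card_eq_fintype_card]

theorem isSolvable : Group.IsSolvable Γ := by
  haveI : Fact (Nat.Prime 2) := ⟨Nat.prime_two⟩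
  have hsyl := h.sylHyp
  by_cases hodd : ∀ (r : ℕ) (x g : Γ), r.Prime → Odd r → orderOf x = r → Inv g x →
      Odd (Nat.card (centralizer ({x} : Set Γ)))
  · exact hsyl.isSolvable_of_odd hodd
  push Not at hodd
  obtain ⟨r, x, g0, hr, hro, hx, hinv0, hev⟩ := hodd
  rw [Nat.not_odd_iff_even] at hev
  obtain ⟨m, e, -, he, hinv⟩ := exists_two_inverter hinv0
  set g := g0 ^ m
  have hgn : g ∈ normalizer ((centralizer ({x} : Set Γ) : Subgroup Γ) : Set Γ) := by
    have hgx : ∀ u ∈ centralizer ({x} : Set Γ), g * u * g⁻¹ ∈ centralizer ({x} : Set Γ) := by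
      intro u hu
      rw [mem_centralizer_singleton_iff]
      have hux : Commute u x⁻¹ := (commute_of_mem_centralizer hu).inv_right
      have e1 : g⁻¹ * x * g = x⁻¹ := by
        calc g⁻¹ * x * g = g⁻¹ * (g * x * g⁻¹)⁻¹ * g := by rw [hinv, inv_inv]
          _ = x⁻¹ := by group
      calc g * u * g⁻¹ * x = g * (u * (g⁻¹ * x * g)) * g⁻¹ := by group
        _ = g * ((g⁻¹ * x * g) * u) * g⁻¹ := by rw [e1, hux.eq]
        _ = x * (g * u * g⁻¹) := by group
    rw [mem_normalizer_iff]
    refine fun u => ⟨hgx u, fun hu => ?_⟩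
    have h2 : ∀ k : ℕ, g ^ k * (g * u * g⁻¹) * (g ^ k)⁻¹ ∈ centralizer ({x} : Set Γ) := by
      intro k
      induction k with
      | zero => simpa using hu
      | succ k ih =>
        have := hgx _ ih
        convert this using 1
        rw [pow_succ']
        group
    have h3 := h2 (orderOf g - 1)
    have e2 : g ^ (orderOf g - 1) = g⁻¹ := by
      rw [eq_inv_iff_mul_eq_one, ← pow_succ, Nat.sub_add_cancel (orderOf_pos g),
        pow_orderOf_eq_one]
    rw [e2] at h3
    simpa [mul_assoc] using h3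
  obtain ⟨w, hwC, hw, hgw⟩ := exists_involution_commute _ hev he hgn
  have hsq := h.card_fix_sq hw
  set U := fixSub (W := W) ({w} : Set Γ) with hU
  obtain ⟨k, hk⟩ := (h.isPGroup.to_subgroup U).exists_card_eq
  rw [hk, ← pow_add] at hsq
  have hxU : ∀ v ∈ U, x • v ∈ U := by
    intro v hv a ha
    rw [Set.mem_singleton_iff] at ha
    subst ha
    rw [← mul_smul, (commute_of_mem_centralizer hwC).eq, mul_smul, hv a rfl]
  have hxfree : ∀ v : W, x • v = v → v = 1 := fun v hv => by
    by_contra hv1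
    exact h.fpf_prime hr hro hx hinv hv1 hv
  haveI : Fact r.Prime := ⟨hr⟩
  have hr2 : r ≠ 2 := fun e2 => absurd (e2 ▸ hro) (by decide)
  -- the orbits of `x` on the fixed vectors of `w`
  have hmodr : 2 ^ k ≡ 1 [MOD r] := by
    have h1 := card_modEq (W := W) hx U hxU
    have h2 : U ⊓ fixSub (W := W) ({x} : Set Γ) = ⊥ :=
      eq_bot_iff.2 fun v hv => mem_bot.2 (hxfree v (hv.2 x rfl))
    rwa [h2, card_bot, hk] at h1
  obtain ⟨w0, hw0⟩ := h.nt
  have hk0 : k ≠ 0 := by
    rintro rfl
    have h1 : Nat.card W = 1 := by rw [← hsq]; rfl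
    haveI : Nontrivial W := ⟨⟨w0, 1, hw0⟩⟩
    exact (Finite.one_lt_card_iff_nontrivial.2 inferInstance).ne' h1
  have hk1 : k ≠ 1 := by
    rintro rfl
    rw [Nat.ModEq] at hmodr
    have hr3 : 3 ≤ r := by have := hr.two_le; omega
    rw [Nat.mod_eq_of_lt (by omega), Nat.mod_eq_of_lt (by omega)] at hmodr
    omega
  have hk3 : k ≠ 3 := by
    rintro rfl
    have hr7 : r = 7 := by
      have h1 : r ∣ 7 := by
        have := (Nat.modEq_iff_dvd' (by norm_num : 1 ≤ 2 ^ 3)).1 hmodr.symm
        simpa using this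
      exact ((Nat.dvd_prime (by norm_num)).1 h1).resolve_left hr.ne_one
    subst hr7
    -- a fixed vector of the inverting element
    have hgU : ∀ v ∈ U, g • v ∈ U := by
      intro v hv a ha
      rw [Set.mem_singleton_iff] at ha
      subst ha
      rw [← mul_smul, ← hgw.eq, mul_smul, hv a rfl]
    obtain ⟨i, -, hi⟩ := (Nat.dvd_prime_pow Nat.prime_two).1 (orderOf_dvd_of_pow_eq_one he)
    let X : SubMulAction (zpowers g) W :=
      { carrier := (U : Set W)
        smul_mem' := fun c v hv => by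
          obtain ⟨j, hj⟩ := exists_npow c.2
          show (c : Γ) • v ∈ U
          rw [← hj]
          exact stable_pow hgU j v hv }
    have hcardX : 2 ∣ Nat.card X := by
      show 2 ∣ Nat.card U
      rw [hk]
      norm_num
    obtain ⟨⟨u, huU⟩, hu, hu1⟩ := (IsPGroup.of_card (p := 2) (n := i) (by
      rw [Nat.card_zpowers, hi]) : IsPGroup 2 (zpowers g)).exists_fixed_point_of_prime_dvd_card_of_fixed_point
        X hcardX (a := ⟨1, U.one_mem⟩) (fun c => Subtype.ext (smul_one (c : Γ)))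
    have hu1' : u ≠ 1 := fun e' => hu1 (Subtype.ext e'.symm)
    have hgu : g • u = u := congrArg Subtype.val (hu ⟨g, mem_zpowers g⟩)
    have hinj : ∀ a b : ℕ, x ^ a • u = x ^ b • u → a ≡ b [MOD 7] := by
      intro a b hab
      by_contra hne
      apply hu1'
      rcases le_total a b with hle | hle
      all_goals
        first
        | (have h1 : x ^ (b - a) • u = u := by
            rw [← Nat.add_sub_cancel' hle, pow_add, mul_smul] at hab
            exact (MulAction.injective _ hab).symm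
           by_contra hu'
           obtain ⟨c, hc⟩ : 7 ∣ b - a := by
            by_contra hnd
            refine h.fpf (x := x ^ (b - a)) (g := g) ?_ ?_ (inv_pow_pow hinv _) hu1' h1
            · rw [← Nat.coprime_two_right]
              exact Nat.Coprime.coprime_dvd_left (orderOf_pow_dvd _) (by rw [hx]; norm_num)
            · intro e1
              exact hnd (hx ▸ orderOf_dvd_of_pow_eq_one e1)
           exact hne ((Nat.modEq_iff_dvd' hle).2 ⟨c, hc⟩))
        | (have h1 : x ^ (a - b) • u = u := by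
            rw [← Nat.add_sub_cancel' hle, pow_add, mul_smul] at hab
            exact MulAction.injective _ hab
           by_contra hu'
           obtain ⟨c, hc⟩ : 7 ∣ a - b := by
            by_contra hnd
            refine h.fpf (x := x ^ (a - b)) (g := g) ?_ ?_ (inv_pow_pow hinv _) hu1' h1
            · rw [← Nat.coprime_two_right]
              exact Nat.Coprime.coprime_dvd_left (orderOf_pow_dvd _) (by rw [hx]; norm_num)
            · intro e1
              exact hnd (hx ▸ orderOf_dvd_of_pow_eq_one e1)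
           exact hne ((Nat.modEq_iff_dvd' hle).2 ⟨c, hc⟩).symm)
    have hxa : ∀ a : ℕ, x ^ a • u ∈ U := fun a => stable_pow hxU a u huU
    -- the orbit exhausts the nonidentity vectors
    have horb : ∀ v ∈ U, v ≠ 1 → ∃ a : ℕ, a < 7 ∧ x ^ a • u = v := by
      classical
      intro v hv hv1
      by_contra hnone
      push Not at hnone
      let f : Fin 7 ⊕ Fin 2 → U := Sum.elim (fun a : Fin 7 => ⟨x ^ (a : ℕ) • u, hxa _⟩)
        (fun b : Fin 2 => if b = 0 then 1 else ⟨v, hv⟩)
      have hne1 : ∀ a : ℕ, x ^ a • u ≠ 1 := fun a e' => hu1' (MulAction.injective (x ^ a)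
        (e'.trans (smul_one _).symm))
      have hf : Function.Injective f := by
        rintro (a | a) (b | b) hab
        · have h1 := hinj _ _ (congrArg Subtype.val hab)
          rw [Nat.ModEq, Nat.mod_eq_of_lt a.2, Nat.mod_eq_of_lt b.2] at h1
          rw [Fin.ext h1]
        · fin_cases b
          · exact absurd (congrArg Subtype.val hab) (hne1 _)
          · exact absurd (congrArg Subtype.val hab) (hnone _ a.2)
        · fin_cases a
          · exact absurd (congrArg Subtype.val hab).symm (hne1 _)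
          · exact absurd (congrArg Subtype.val hab).symm (hnone _ b.2)
        · fin_cases a <;> fin_cases b <;>
            first | rfl | exact absurd (congrArg Subtype.val hab) (Ne.symm hv1) |
              exact absurd (congrArg Subtype.val hab) hv1
      have := Nat.card_le_card_of_injective f hf
      rw [hk, Nat.card_sum, Nat.card_fin, Nat.card_fin] at this
      norm_num at this
    have hx7 : x ^ 7 = 1 := hx ▸ pow_orderOf_eq_one x
    have hprod : u * x • u ≠ 1 := fun e1 => hu1' (by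
      by_contra hu'
      rw [mul_eq_one_iff_inv_eq, h.inv_eq] at e1
      exact h.fpf_prime hr hro hx hinv hu1' e1.symm)
    obtain ⟨j, hj7, hj⟩ := horb (u * x • u) (mul_mem huU (hxU u huU)) hprod
    -- apply the inverting element
    have hgx : ∀ a : ℕ, g • x ^ a • u = (x ^ a)⁻¹ • u := by
      intro a
      rw [← mul_smul, mul_inv_eq_iff_eq_mul.1 (inv_pow_pow hinv a), mul_smul, hgu]
    have h1 : x ^ (j + j) • u = x ^ 1 • u := by
      have e1 : g • (x ^ j • u) = g • (u * x • u) := by rw [hj]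
      rw [hgx, smul_mul', hgu, show g • x • u = x⁻¹ • u by simpa using hgx 1] at e1
      have e2 : x • (x ^ j)⁻¹ • u = x ^ j • u := by
        rw [e1, smul_mul', smul_inv_smul, mul_comm, hj]
      have e3 : x ^ j • x • (x ^ j)⁻¹ • u = x ^ j • x ^ j • u := by rw [e2]
      rw [← mul_smul, ← mul_smul, ← mul_smul, ((Commute.refl x).pow_left j).eq,
        mul_inv_cancel_right] at e3
      rw [pow_add, pow_one, ← e3]
    have hj4 : j = 4 := by
      have := hinj _ _ h1
      rw [Nat.ModEq] at this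
      omega
    subst hj4
    have e1 : x ^ 4 • x ^ 4 • u = x ^ 4 • (u * x • u) := by rw [hj]
    rw [← mul_smul, ← pow_add, smul_mul', ← mul_smul (x ^ 4) x u, ← pow_succ,
      show x ^ (4 + 4) = x by rw [show 4 + 4 = 7 + 1 by norm_num, pow_add, hx7, one_mul, pow_one],
      hj] at e1
    have e2 : x ^ 5 • u = x ^ 0 • u := by
      rw [pow_zero, one_smul]
      calc x ^ 5 • u = u * x • u * (u * x • u * x ^ 5 • u) := by rw [← mul_assoc, h.exp, one_mul]
        _ = u * x • u * x • u := by rw [← e1]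
        _ = u := by rw [mul_assoc, h.exp, mul_one]
    have := hinj _ _ e2
    rw [Nat.ModEq] at this
    norm_num at this
  -- a primitive prime divisor
  obtain ⟨ℓ, hℓp, hℓdvd, hℓord⟩ := H76.exists_primitive_two (n := k + k) (by omega) (by omega)
  haveI : Fact ℓ.Prime := ⟨hℓp⟩
  have hℓ : Odd ℓ := by
    refine hℓp.odd_of_ne_two fun e2 => ?_
    subst e2
    have h1 : 2 ∣ 2 ^ (k + k) := dvd_pow_self 2 (by omega)
    have h2 : 1 ≤ 2 ^ (k + k) := Nat.one_le_two_pow
    omega
  have hd : Nat.card W = 2 ^ (k + k) := hsq.symm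
  obtain ⟨P⟩ := (inferInstance : Nonempty (Sylow 2 Γ))
  have hcount := h.card_vectors P
  set F := fixSub (W := W) ((P : Subgroup Γ) : Set Γ) with hF
  obtain ⟨f, hfle, hf⟩ := (Nat.dvd_prime_pow Nat.prime_two).1 (hd ▸ card_subgroup_dvd_card F)
  have hn : ℓ ∣ Nat.card (Sylow 2 Γ) := by
    rw [hd, hf] at hcount
    refine (hℓp.dvd_mul.1 (hcount ▸ hℓdvd)).resolve_right fun hdf => ?_
    have h1 : 2 ^ f ≡ 2 ^ 0 [MOD ℓ] := ((Nat.modEq_iff_dvd' Nat.one_le_two_pow).2 hdf).symm
    have h2 := dvd_of_dvd_two_pow hℓord (Nat.zero_le f) h1 hℓ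
    rw [Nat.sub_zero] at h2
    have hf0 : f ≠ 0 := by
      rintro rfl
      obtain ⟨v, hv, hvP⟩ := h.exists_fixed_vector P
      rw [pow_zero, Subgroup.card_eq_one] at hf
      have : v ∈ F := fun a ha => hvP ha
      rw [hf, mem_bot] at this
      exact hv this
    have hfd : f = k + k := le_antisymm hfle (Nat.le_of_dvd (Nat.pos_of_ne_zero hf0) h2)
    rw [hfd, ← hd] at hf
    have htop := eq_top_of_card_eq F hf
    obtain ⟨Q, hQ⟩ := hsyl.exists_not_mem (H65.ne_one_of_two hw)
    obtain ⟨a, rfl⟩ := MulAction.exists_smul_eq Γ Q P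
    have hw' := conj_mem_smul (P := a⁻¹ • a • Q) (u := w)
    apply hQ
    have h3 : ∀ u ∈ ((a • Q : Sylow 2 Γ) : Subgroup Γ), u = 1 := fun u hu =>
      h.faithful u fun v => (htop ▸ mem_top v : v ∈ F) u hu
    obtain ⟨R, hR⟩ := (IsPGroup.of_card (n := 1) (by rw [Nat.card_zpowers, hw, pow_one]) :
      IsPGroup 2 (zpowers w)).exists_le_sylow
    obtain ⟨b, rfl⟩ := MulAction.exists_smul_eq Γ (a • Q) R
    have h4 := conj_mem_smul (hR (mem_zpowers w)) b⁻¹
    rw [inv_smul_smul, inv_inv] at h4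
    have h5 := h3 _ h4
    refine absurd ?_ (H65.ne_one_of_two hw)
    calc w = b * (b⁻¹ * w * b) * b⁻¹ := by group
      _ = 1 := by rw [h5]; group
  have hcopn : ∀ (r : ℕ) (y g' : Γ), r.Prime → Odd r → orderOf y = r → Inv g' y →
      (centralizer ({y} : Set Γ)).index.Coprime (Nat.card (Sylow 2 Γ)) := by
    intro r y g' hr hro hy hinv'
    obtain ⟨v, hv, -⟩ := h.exists_fixed_vector P
    exact (h.cop r y g' hr hro hy hinv' v hv).coprime_dvd_right (h.card_sylow_dvd hv)
  have hcomm := fun a ha => h.centralizer_comm hd hℓord hℓ (a := a) ha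
  have hoddC := fun a ha => h.odd_centralizer hd hℓord hℓ (a := a) ha
  have huniq := fun a b ha hb hab => h.mem_zpowers_of_commute hd hℓord hℓ (a := a) (b := b) ha hb hab
  -- an element of order `ℓ` centralizing `x`
  have hℓC : ℓ ∣ Nat.card (centralizer ({x} : Set Γ)) := by
    have h1 : ℓ ∣ Nat.card Γ := by
      refine hn.trans ?_
      rw [Sylow.card_eq_index_normalizer P]
      exact index_dvd_card _
    rw [← card_mul_index (centralizer ({x} : Set Γ))] at h1
    exact (hℓp.dvd_mul.1 h1).resolve_right fun h2 =>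
      hℓp.ne_one (Nat.eq_one_of_dvd_coprimes (hcopn r x g hr hro hx hinv) h2 hn)
  obtain ⟨⟨L0, hL0C⟩, hL0⟩ := exists_prime_orderOf_dvd_card' ℓ hℓC
  rw [Subgroup.orderOf_mk] at hL0
  obtain ⟨c, hc, hcz⟩ := exists_conj_zpowers_of hℓp hcomm huniq
    ((mem_normalizer_iff.1 hgn L0).1 hL0C) hL0C ((oconj g L0).trans hL0) hL0
  have hg2n : c * g ∈ normalizer ((zpowers L0 : Subgroup Γ) : Set Γ) := by
    refine TorusHyp.mem_normalizer_zpowers ?_
    rw [← hcz]
    congr 1
    group
  have hg2x : Inv (c * g) x := by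
    show c * g * x * (c * g)⁻¹ = x⁻¹
    calc c * g * x * (c * g)⁻¹ = c * (g * x * g⁻¹) * c⁻¹ := by group
      _ = c * x⁻¹ * c⁻¹ := by rw [hinv]
      _ = x⁻¹ := by rw [((commute_of_mem_centralizer hc).inv_right).eq, mul_inv_cancel_right]
  obtain ⟨m', e', -, he', ht⟩ := exists_two_inverter hg2x
  set t := (c * g) ^ m'
  have htc : t ∉ centralizer ((zpowers L0 : Subgroup Γ) : Set Γ) := by
    intro htc
    have h1 : t ∈ centralizer ({L0} : Set Γ) :=
      mem_centralizer_singleton_iff.2 (mem_centralizer_iff.1 htc L0 (mem_zpowers L0)).symm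
    have h2 := (hoddC L0 hL0).of_dvd_nat (Subgroup.orderOf_dvd_natCard _ h1)
    have h3 : t = 1 := by
      rw [← orderOf_eq_one_iff]
      exact Nat.eq_one_of_dvd_coprimes (Nat.Coprime.pow_left e' (Nat.coprime_two_left.2 h2))
        (orderOf_dvd_of_pow_eq_one he') dvd_rfl
    have h4 := eq_one_of_inv_commute (hx ▸ hro) ht (h3 ▸ Commute.one_left x)
    rw [h4, orderOf_one] at hx
    exact hr.ne_one hx.symm
  obtain ⟨L, hL, hL1, gL, -, hLinv⟩ := H4.RealZJ.exists_inverted_of_two_pow (zpowers L0) e' t he'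
    (pow_mem hg2n m') htc
  have hLord : orderOf L = ℓ :=
    ((Nat.dvd_prime hℓp).1 (hL0 ▸ orderOf_dvd_of_mem_zpowers hL)).resolve_left
      fun h1 => hL1 (orderOf_eq_one_iff.1 h1)
  exact TorusHyp.isSolvable (ℓ := ℓ) (L := L) (gL := gL)
    ⟨hsyl, hℓp, hℓ, hLord, hLinv, hcopn, hcomm, hoddC, huniq⟩

end ModHyp

end H3.RealGraph
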