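import Cfsg.Agent.H3.RealGraph.Main
import Mathlib.GroupTheory.Transfer
import Cfsg.Agent.H3.MinNormal

/-!
The subgroup generated by the `2`-elements when the graph on real class sizes is disconnected.
-/

set_option autoImplicit false
set_option linter.style.haveILetI false

namespace H3.RealGraph

open Subgroup

universe u

/-- The subgroup generated by the elements of `2`-power order. -/
abbrev twoGen (G : Type*) [Group G] : Subgroup G :=
  Subgroup.closure {g : G | ∃ k : ℕ, orderOf g = 2 ^ k}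

theorem twoGen_normal (G : Type*) [Group G] : (twoGen G).Normal := by
  refine ⟨fun z hz c => ?_⟩
  refine (Subgroup.closure_le (K := (twoGen G).comap (MulAut.conj c).toMonoidHom)).2 ?_ hz
  rintro g ⟨k, hk⟩
  exact Subgroup.subset_closure ⟨k, by rw [← hk]; exact (MulAut.conj c).orderOf_eq g⟩

theorem mem_twoGen {G : Type*} [Group G] {g : G} {k : ℕ} (h : g ^ (2 ^ k) = 1) : g ∈ twoGen G := by
  obtain ⟨i, -, hi⟩ := (Nat.dvd_prime_pow Nat.prime_two).1 (orderOf_dvd_of_pow_eq_one h)
  exact Subgroup.subset_closure ⟨i, hi⟩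

theorem not_dvd_twoGen_aux (p : ℕ) [hp : Fact p.Prime] (hp2 : p ≠ 2) : ∀ (n : ℕ) (G : Type u)
    [Group G] [Finite G], Nat.card G ≤ n → Group.IsSolvable G →
    ∀ (P : Sylow 2 G) (Q : Sylow p G), (Q : Subgroup G) ≤ normalizer ((P : Subgroup G) : Set G) →
      ¬ p ∣ Nat.card (twoGen G) := by
  haveI : Fact (Nat.Prime 2) := ⟨Nat.prime_two⟩
  intro n
  induction n with
  | zero =>
    intro G _ _ hn
    exact absurd (Nat.le_zero.1 hn) (Nat.card_pos).ne'
  | succ n ih =>
    intro G _ _ hn hsol P Q hQP hdvd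
    haveI := hsol
    rcases subsingleton_or_nontrivial G with hG | hG
    · have h1 : Nat.card (twoGen G) = 1 := Nat.card_eq_one_iff_unique.2 ⟨inferInstance, ⟨1⟩⟩
      rw [h1] at hdvd
      exact hp.out.not_dvd_one hdvd
    obtain ⟨N, hNn, hN1, hNmin⟩ : ∃ N : Subgroup G, N.Normal ∧ N ≠ ⊥ ∧
        ∀ M : Subgroup G, M.Normal → M ≤ N → M ≠ ⊥ → M = N := by
      obtain ⟨N, hN⟩ := (Set.toFinite {N : Subgroup G | N.Normal ∧ N ≠ ⊥}).exists_minimal
        ⟨⊤, inferInstance, top_ne_bot⟩
      exact ⟨N, hN.1.1, hN.1.2, fun M h1 h2 h3 => le_antisymm h2 (hN.2 ⟨h1, h3⟩ h2)⟩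
    haveI := hNn
    haveI := twoGen_normal G
    set K := twoGen G with hK
    set π := QuotientGroup.mk' N with hπ
    have hπs : Function.Surjective π := QuotientGroup.mk'_surjective N
    have hcard : Nat.card (G ⧸ N) ≤ n := by
      have h1 := N.card_eq_card_quotient_mul_card_subgroup
      have h2 : 1 < Nat.card N := by
        rw [one_lt_card_iff_ne_bot]
        exact hN1
      have h3 := Nat.card_pos (α := G ⧸ N)
      nlinarith [hn]
    have himg := ih (G ⧸ N) hcard (Group.isSolvable_of_surjective hπs) (P.mapSurjective hπs)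
      (Q.mapSurjective hπs) (by
        rw [Sylow.coe_mapSurjective, Sylow.coe_mapSurjective]
        exact (map_mono hQP).trans (le_normalizer_map _))
    have hKmap : ¬ p ∣ Nat.card (K.map π) := fun h => himg (h.trans (card_dvd_of_le (by
      rw [hK, twoGen, MonoidHom.map_closure, Subgroup.closure_le]
      rintro _ ⟨g, ⟨k, hk⟩, rfl⟩
      exact mem_twoGen (k := k) (by rw [← map_pow, ← hk, pow_orderOf_eq_one, map_one]))))
    have hsplit : Nat.card (K ⊓ N : Subgroup G) * Nat.card (K.map π) = Nat.card K := by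
      rw [← card_mul_index ((K ⊓ N).subgroupOf K),
        Nat.card_congr (subgroupOfEquivOfLe (inf_le_left : K ⊓ N ≤ K)).toEquiv]
      congr 1
      rw [inf_comm, inf_subgroupOf_right]
      show _ = N.relIndex K
      rw [hπ, ← relIndex_ker, QuotientGroup.ker_mk']
    -- so `p` divides the order of the minimal normal subgroup, inside `K`
    have hpN : p ∣ Nat.card (K ⊓ N : Subgroup G) :=
      (hp.out.dvd_mul.1 (hsplit ▸ hdvd)).resolve_right hKmap
    have hNK : K ⊓ N = N := hNmin _ inferInstance inf_le_right fun e => by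
      rw [e, Subgroup.card_bot] at hpN
      exact hp.out.not_dvd_one hpN
    rw [hNK] at hpN hsplit
    obtain ⟨-, r, hr, -, hNr, e, -, he⟩ := H3.minNormal_elementary N hN1 fun M h1 h2 => by
      by_cases h3 : M = ⊥
      · exact Or.inl h3
      · exact Or.inr (hNmin M h1 h2 h3)
    obtain rfl : p = r := (Nat.prime_dvd_prime_iff_eq hp.out hr).1
      (hp.out.dvd_of_dvd_pow (he ▸ hpN))
    -- `N` commutes with every `2`-element
    have hNQ : N ≤ (Q : Subgroup G) :=
      (H1.le_pCore hNr).trans (H1.pCore_le_sylow Q)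
    have hNP : ∀ a ∈ N, ∀ u ∈ (P : Subgroup G), Commute a u := by
      intro a ha u hu
      have h1 : a * u * a⁻¹ * u⁻¹ ∈ (P : Subgroup G) :=
        mul_mem ((mem_normalizer_iff.1 (hQP (hNQ ha)) u).1 hu) (inv_mem hu)
      have h2 : a * u * a⁻¹ * u⁻¹ ∈ N := by
        rw [show a * u * a⁻¹ * u⁻¹ = a * (u * a⁻¹ * u⁻¹) by group]
        exact mul_mem ha (hNn.conj_mem _ (inv_mem ha) u)
      have h3 : a * u * a⁻¹ * u⁻¹ = 1 := by
        obtain ⟨i, hi⟩ := IsPGroup.iff_orderOf.1 P.isPGroup' ⟨_, h1⟩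
        rw [Subgroup.orderOf_mk] at hi
        rw [← orderOf_eq_one_iff]
        refine Nat.eq_one_of_dvd_coprimes (a := 2 ^ i) (b := p ^ e)
          (Nat.Coprime.pow _ _ ((Nat.coprime_primes Nat.prime_two hr).2 hp2.symm)) (hi ▸ dvd_rfl) ?_
        exact he ▸ Subgroup.orderOf_dvd_natCard N h2
      exact mul_inv_eq_iff_eq_mul.1 (mul_inv_eq_one.1 h3)
    have hNcent : ∀ a ∈ N, K ≤ centralizer ({a} : Set G) := by
      intro a ha
      rw [hK, Subgroup.closure_le]
      rintro g ⟨k, hk⟩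
      obtain ⟨S, hS⟩ := (IsPGroup.of_card (p := 2) (n := k) (by rw [Nat.card_zpowers, hk]) :
        IsPGroup 2 (zpowers g)).exists_le_sylow
      obtain ⟨c, rfl⟩ := MulAction.exists_smul_eq G P S
      have h1 := hS (mem_zpowers g)
      rw [Sylow.coe_subgroup_smul, mem_pointwise_smul_iff_inv_smul_mem] at h1
      simp only [MulAut.smul_def, MulAut.inv_def, MulAut.conj_symm_apply] at h1
      have h2 := hNP _ (by simpa using hNn.conj_mem a ha c⁻¹) _ h1
      rw [SetLike.mem_coe, mem_centralizer_singleton_iff]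
      calc g * a = c * ((c⁻¹ * g * c) * (c⁻¹ * a * c)) * c⁻¹ := by group
        _ = c * ((c⁻¹ * a * c) * (c⁻¹ * g * c)) * c⁻¹ := by rw [h2.eq]
        _ = a * g := by group
    -- transfer: a central Sylow subgroup of `K` has a complement containing all `2`-elements
    have hNK' : N ≤ K := hNK ▸ inf_le_left
    have hidx : ¬ p ∣ (N.subgroupOf K).index := by
      have h1 := card_mul_index (N.subgroupOf K)
      rw [Nat.card_congr (subgroupOfEquivOfLe hNK').toEquiv, ← hsplit] at h1
      rwa [Nat.eq_of_mul_eq_mul_left Nat.card_pos h1]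
    have hcl : normalizer (((N.subgroupOf K : Subgroup K)) : Set K) ≤
        centralizer (((N.subgroupOf K : Subgroup K)) : Set K) := fun k _ =>
      mem_centralizer_iff.2 fun a ha => Subtype.ext
        (mem_centralizer_singleton_iff.1 (hNcent a ha k.2)).symm
    set T : Sylow p K :=
      ((hNr.of_injective (subgroupOfEquivOfLe hNK').toMonoidHom (subgroupOfEquivOfLe hNK').injective : IsPGroup p (N.subgroupOf K))).toSylow
        hidx with hT
    have hc := MonoidHom.ker_transferSylow_isComplement' T hcl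
    set C := (MonoidHom.transferSylow T hcl).ker
    have hall : K ≤ C.map K.subtype := by
      conv_lhs => rw [hK, twoGen]
      rw [Subgroup.closure_le]
      rintro g ⟨k, hk⟩
      have hgK : g ∈ K := mem_twoGen (k := k) (hk ▸ pow_orderOf_eq_one g)
      refine ⟨⟨g, hgK⟩, ?_, rfl⟩
      rw [SetLike.mem_coe, MonoidHom.mem_ker, ← orderOf_eq_one_iff]
      obtain ⟨i, hi⟩ := IsPGroup.iff_orderOf.1 T.isPGroup' (MonoidHom.transferSylow T hcl ⟨g, hgK⟩)
      refine Nat.eq_one_of_dvd_coprimes (a := 2 ^ k) (b := p ^ i)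
        (Nat.Coprime.pow _ _ ((Nat.coprime_primes Nat.prime_two hr).2 hp2.symm)) ?_ (hi ▸ dvd_rfl)
      rw [← hk, ← Subgroup.orderOf_mk g hgK]
      exact orderOf_map_dvd _ _
    have hCtop : C = ⊤ := by
      rw [eq_top_iff]
      rintro ⟨g, hg⟩ -
      obtain ⟨c, hc', e'⟩ := hall hg
      have : c = ⟨g, hg⟩ := Subtype.ext e'
      exact this ▸ hc'
    rw [hCtop] at hc
    have hbot := Subgroup.isComplement'_top_left.1 hc
    apply hN1
    rw [eq_bot_iff]
    intro a ha
    have : (⟨a, hNK' ha⟩ : K) ∈ ((T : Sylow p K) : Subgroup K) := ha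
    rw [hbot, mem_bot] at this
    exact mem_bot.2 (congrArg Subtype.val this)

/-- If a Sylow `p`-subgroup normalizes a Sylow `2`-subgroup then `p` does not divide the order of
the subgroup generated by the `2`-elements. -/
theorem not_dvd_card_twoGen {G : Type u} [Group G] [Finite G] (hsol : Group.IsSolvable G) {p : ℕ}
    [Fact p.Prime] (hp2 : p ≠ 2) (P : Sylow 2 G) (Q : Sylow p G)
    (h : (Q : Subgroup G) ≤ normalizer ((P : Subgroup G) : Set G)) :
    ¬ p ∣ Nat.card (twoGen G) :=
  not_dvd_twoGen_aux p hp2 _ G le_rfl hsol P Q h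

section

variable {G : Type*} [Group G] [Finite G]

theorem relIndex_dvd_index (C K : Subgroup G) [K.Normal] : C.relIndex K ∣ C.index := by
  have h1 : (C ⊓ K).index = C.relIndex K * K.index := by
    rw [← relIndex_mul_index (inf_le_right : C ⊓ K ≤ K), inf_relIndex_right]
  have h2 : (C ⊓ K).index = K.relIndex C * C.index := by
    rw [← relIndex_mul_index (inf_le_left : C ⊓ K ≤ C), inf_relIndex_left]
  obtain ⟨c, hc⟩ := relIndex_dvd_index_of_normal K C
  refine ⟨c, ?_⟩
  rw [h2, hc] at h1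
  exact Nat.eq_of_mul_eq_mul_left (Nat.pos_of_ne_zero (index_ne_zero_of_finite (H := K.subgroupOf C)))
    (show K.relIndex C * C.index = K.relIndex C * (C.relIndex K * c) by rw [h1]; ring)

theorem ind_subgroup_dvd {K : Subgroup G} [K.Normal] (x : K) : ind x ∣ ind (x : G) := by
  have h : centralizer ({x} : Set K) = (centralizer ({(x : G)} : Set G)).subgroupOf K := by
    ext a
    rw [mem_centralizer_singleton_iff, mem_subgroupOf, mem_centralizer_singleton_iff, Subtype.ext_iff]
    rfl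
  show (centralizer ({x} : Set K)).index ∣ _
  rw [h]
  exact relIndex_dvd_index _ K

/-- If the class of `v * u` is the translate by `v` of the class of `u` then `v` is central. -/
theorem ind_eq_one_of_translate {u v : G} (hc : Commute u v)
    (hcop : (ind u).Coprime (ind v)) (hd : (ind (u * v)).Coprime (ind v)) (hodd : Odd (ind u))
    (hv : v * v = 1) (hvv : ∀ e : G, Commute v (e * v * e⁻¹)) : ind v = 1 := by
  obtain ⟨hdvd, -, -⟩ := H27.index_mul_facts hc hcop
  obtain ⟨-, hmap, hle⟩ := H27.index_mul_facts hc.symm hcop.symm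
  rw [← hc.eq] at hmap hle
  have hdvd' : ind (u * v) ∣ ind u := hd.dvd_of_dvd_mul_right hdvd
  have hcard : ind (u * v) = ind u :=
    le_antisymm (Nat.le_of_dvd (Nat.pos_of_ne_zero index_ne_zero_of_finite) hdvd') hle
  have hsurj : Function.Surjective (fun s : (ConjClasses.mk u).carrier =>
      (⟨v * s, hmap s s.2⟩ : (ConjClasses.mk (u * v)).carrier)) := by
    refine (Function.Injective.bijective_of_nat_card_le
      (fun s t e => Subtype.ext (mul_left_cancel (congrArg Subtype.val e))) ?_).2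
    rw [H27.card_carrier_eq_index, H27.card_carrier_eq_index]
    exact hcard.le
  have hmem : ∀ {z s : G}, s ∈ (ConjClasses.mk z).carrier ↔ IsConj z s := fun {z s} => by
    rw [ConjClasses.mem_carrier_iff_mk_eq, ConjClasses.mk_eq_mk_iff_isConj]
    exact ⟨IsConj.symm, IsConj.symm⟩
  rw [index_eq_one, eq_top_iff]
  intro e _
  rw [mem_cent_iff]
  set t := v⁻¹ * (e * v * e⁻¹) with ht
  have hstab : ∀ s ∈ (ConjClasses.mk u).carrier, t * s ∈ (ConjClasses.mk u).carrier := by
    intro s hs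
    obtain ⟨f, hf⟩ := isConj_iff.1 (hmem.1 hs)
    have h1 : (e * v * e⁻¹) * s ∈ (ConjClasses.mk (u * v)).carrier := by
      have h2 := hmem.1 (hmap (e⁻¹ * s * e) (hmem.2 (isConj_iff.2 ⟨e⁻¹ * f, by rw [← hf]; group⟩)))
      exact hmem.2 (h2.trans (isConj_iff.2 ⟨e, by group⟩))
    obtain ⟨⟨s', hs'⟩, hs''⟩ := hsurj ⟨_, h1⟩
    have h5 : v * s' = e * v * e⁻¹ * s := congrArg Subtype.val hs''
    rw [ht, mul_assoc, ← h5, inv_mul_cancel_left]
    exact hs'
  have hinvar : ∀ b ∈ zpowers t, ∀ s ∈ (ConjClasses.mk u).carrier,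
      b * s ∈ (ConjClasses.mk u).carrier := by
    intro b hb
    obtain ⟨n, rfl⟩ := exists_npow hb
    induction n with
    | zero => intro s hs; rwa [pow_zero, one_mul]
    | succ n ih =>
      intro s hs
      rw [pow_succ', mul_assoc]
      exact hstab _ (ih (pow_mem (mem_zpowers t) n) s hs)
  have hdvdT := H27.card_dvd_of_mul_invariant (zpowers t) _ hinvar
  rw [H27.card_carrier_eq_index, Nat.card_zpowers] at hdvdT
  have : orderOf t = 1 := by
    refine Nat.eq_one_of_dvd_coprimes (Nat.coprime_two_left.2 hodd) ?_ hdvdT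
    refine orderOf_dvd_of_pow_eq_one ?_
    rw [ht, (hvv e).inv_left.mul_pow, inv_pow, pow_two v, hv, inv_one, one_mul, conj_pow,
      pow_two v, hv, mul_one, mul_inv_cancel]
  rw [orderOf_eq_one_iff, ht, inv_mul_eq_one] at this
  exact this.symm

/-- With two parts, some real class has even size. -/
theorem exists_even_ind (π₁ π₂ : Set ℕ)
    (hpure : ∀ g x : G, Inv g x → (PiNum π₁ (ind x) ∧ CoNum π₂ (ind x)) ∨
      (PiNum π₂ (ind x) ∧ CoNum π₁ (ind x)))
    (h₁ : ∃ g x : G, Inv g x ∧ ind x ≠ 1 ∧ PiNum π₁ (ind x))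
    (h₂ : ∃ g x : G, Inv g x ∧ ind x ≠ 1 ∧ PiNum π₂ (ind x)) :
    ∃ g x : G, Inv g x ∧ 2 ∣ ind x := by
  haveI : Fact (Nat.Prime 2) := ⟨Nat.prime_two⟩
  by_contra hno
  push Not at hno
  have hodd : ∀ x : G, x ≠ 1 → Odd (orderOf x) → ¬ IsConj x x⁻¹ := by
    intro x hx ho hreal
    obtain ⟨g, hg⟩ := isConj_iff.1 hreal
    exact hno g x hg (two_dvd_ind ho hx hg)
  obtain ⟨P⟩ := (inferInstance : Nonempty (Sylow 2 G))
  haveI hPn : (P : Subgroup G).Normal := (Cfsg.Agent.S3861.result P).1 hodd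
  haveI := Sylow.unique_of_normal P hPn
  -- real elements are involutions central in the Sylow subgroup
  have hreal : ∀ g x : G, Inv g x → x ∈ (P : Subgroup G) ∧ x * x = 1 ∧
      (P : Subgroup G) ≤ centralizer ({x} : Set G) := by
    intro g x hx
    obtain ⟨a, m, hm, ham⟩ := Nat.exists_eq_two_pow_mul_odd (orderOf_pos x).ne'
    have hx2 : x ^ (2 ^ a) = 1 := by
      by_contra hne
      refine hodd _ hne (hm.of_dvd_nat (orderOf_dvd_of_pow_eq_one ?_))
        (isConj_iff.2 ⟨g, inv_pow_pow hx _⟩)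
      rw [← pow_mul, ← ham, pow_orderOf_eq_one]
    have hP : ∀ (u : G) (k : ℕ), u ^ (2 ^ k) = 1 → u ∈ (P : Subgroup G) := fun u k hu =>
      mem_sylow_of_normalizer P hu (normalizer_eq_top (P : Subgroup G) ▸ mem_top u)
    have hxP := hP x a hx2
    have hCx : (P : Subgroup G) ≤ centralizer ({x} : Set G) := by
      obtain ⟨S⟩ := (inferInstance : Nonempty (Sylow 2 (centralizer ({x} : Set G))))
      set T := (S : Subgroup (centralizer ({x} : Set G))).map (centralizer ({x} : Set G)).subtype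
      have hT : ¬ 2 ∣ T.index := by
        rw [index_map_subtype]
        exact Nat.Prime.not_dvd_mul Nat.prime_two S.not_dvd_index (hno g x hx)
      rw [Subsingleton.elim P ((S.isPGroup'.map _).toSylow hT)]
      exact map_subtype_le _
    refine ⟨hxP, ?_, hCx⟩
    obtain ⟨m', k, -, hk, hinv⟩ := exists_two_inverter hx
    have h1 := mem_centralizer_singleton_iff.1 (hCx (hP _ k hk))
    have h2 : x = x⁻¹ := by
      calc x = g ^ m' * x * (g ^ m')⁻¹ := by rw [h1, mul_inv_cancel_right]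
        _ = x⁻¹ := hinv
    nth_rewrite 2 [h2]
    exact mul_inv_cancel x
  obtain ⟨g₁, u, hu, hu1, huπ⟩ := h₁
  obtain ⟨g₂, v, hv, hv1, hvπ⟩ := h₂
  obtain ⟨huP, hu2, hCu⟩ := hreal g₁ u hu
  obtain ⟨hvP, hv2, hCv⟩ := hreal g₂ v hv
  have huv : Commute u v := (mem_centralizer_singleton_iff.1 (hCu hvP) : Commute v u).symm
  have hcoV : CoNum π₁ (ind v) := by
    refine (hpure g₂ v hv).elim (fun h => ?_) And.right
    obtain ⟨q, hq, hqd⟩ := Nat.exists_prime_and_dvd hv1
    exact absurd (hvπ q hq hqd) (h.2 q hq hqd)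
  have hcop : (ind u).Coprime (ind v) := coprime_pi_co huπ hcoV
  have hinv : Inv 1 (u * v) := by
    show 1 * (u * v) * 1⁻¹ = (u * v)⁻¹
    rw [mul_inv_rev, inv_eq_of_mul_eq_one_right hu2, inv_eq_of_mul_eq_one_right hv2, one_mul,
      inv_one, mul_one, huv.eq]
  have hconj : ∀ {w : G}, w ∈ (P : Subgroup G) → (P : Subgroup G) ≤ centralizer ({w} : Set G) →
      ∀ e : G, Commute w (e * w * e⁻¹) := fun hw hC e =>
    (mem_centralizer_singleton_iff.1 (hC (hPn.conj_mem _ hw e)) : Commute _ _).symm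
  have hodd' : ∀ g x : G, Inv g x → Odd (ind x) := fun g x hx =>
    Nat.not_even_iff_odd.1 fun he => hno g x hx he.two_dvd
  rcases hpure _ _ hinv with ⟨hp, -⟩ | ⟨-, hp⟩
  · exact hv1 (ind_eq_one_of_translate huv hcop (coprime_pi_co hp hcoV) (hodd' g₁ u hu) hv2
      (hconj hvP hCv))
  · refine hu1 (ind_eq_one_of_translate huv.symm hcop.symm ?_ (hodd' g₂ v hv) hu2 (hconj huP hCu))
    rw [← huv.eq]
    exact (coprime_pi_co huπ hp).symm

/-- The real class sizes of the subgroup generated by the `2`-elements. -/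
theorem twoGen_classes {π : Set ℕ} (h2 : 2 ∈ π)
    (hpure : ∀ g x : G, Inv g x → PiNum π (ind x) ∨ CoNum π (ind x))
    (hco : ∃ g x : G, Inv g x ∧ ind x ≠ 1 ∧ CoNum π (ind x))
    (hodd : ∃ g x : G, Inv g x ∧ x ≠ 1 ∧ Odd (orderOf x)) :
    (∀ g x : twoGen G, Inv g x → Odd (ind x) ∨ ∃ j : ℕ, ind x = 2 ^ j) ∧
      (∃ g x : twoGen G, Inv g x ∧ 2 ∣ ind x) ∧
      (∃ g x : twoGen G, Inv g x ∧ Odd (ind x) ∧ ind x ≠ 1) := by
  haveI : Fact (Nat.Prime 2) := ⟨Nat.prime_two⟩
  haveI := twoGen_normal G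
  have hsol := isSolvable_of_pure h2 hpure hco
  -- a real `2`-element with class size prime to `π`
  obtain ⟨gy, y0, hy0, hy0ne, hy0co⟩ := hco
  obtain ⟨a, m, hm, ham⟩ := Nat.exists_eq_two_pow_mul_odd (orderOf_pos y0).ne'
  have hy2 : y0 ^ (2 ^ a) = 1 := by
    by_contra hne
    refine hy0co 2 Nat.prime_two ((two_dvd_ind ?_ hne (inv_pow_pow hy0 _)).trans (ind_pow_dvd y0 _)) h2
    refine hm.of_dvd_nat (orderOf_dvd_of_pow_eq_one ?_)
    rw [← pow_mul, ← ham, pow_orderOf_eq_one]
  have hcl := twoClosed_centralizer_of_coNum h2 hpure hy2 hy0 hy0co hy0ne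
  have key : ∀ p : ℕ, p.Prime → p ∈ π → p ∣ Nat.card (twoGen G) → p = 2 := by
    intro p hp hpπ hpd
    by_contra hp2
    haveI := Fact.mk hp
    have hsyl : ∀ q : ℕ, [Fact q.Prime] → q ∈ π →
        ∃ S : Sylow q G, (S : Subgroup G) ≤ centralizer ({y0} : Set G) := by
      intro q _ hqπ
      obtain ⟨S⟩ := (inferInstance : Nonempty (Sylow q (centralizer ({y0} : Set G))))
      set T := (S : Subgroup (centralizer ({y0} : Set G))).map (centralizer ({y0} : Set G)).subtype
      have hT : ¬ q ∣ T.index := by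
        rw [index_map_subtype]
        exact Nat.Prime.not_dvd_mul Fact.out S.not_dvd_index fun hd => hy0co q Fact.out hd hqπ
      exact ⟨(S.isPGroup'.map _).toSylow hT, map_subtype_le _⟩
    obtain ⟨P, hP⟩ := hsyl 2 h2
    obtain ⟨Q, hQ⟩ := hsyl p hpπ
    exact not_dvd_card_twoGen hsol hp2 P Q (hQ.trans (hcl.le_normalizer hP)) hpd
  have hmap : ∀ g x : twoGen G, Inv g x → Inv (g : G) (x : G) := fun g x h =>
    congrArg Subtype.val h
  refine ⟨fun g x hx => ?_, ?_, ?_⟩
  · rcases hpure _ _ (hmap g x hx) with hp | hp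
    · right
      have hn : ind x ≠ 0 := index_ne_zero_of_finite
      refine ⟨_, Nat.eq_prime_pow_of_unique_prime_dvd hn (p := 2) fun {q} hq hqd => ?_⟩
      exact key q hq (hp q hq (hqd.trans (ind_subgroup_dvd x))) (hqd.trans (index_dvd_card _))
    · left
      exact Nat.not_even_iff_odd.1 fun he =>
        hp 2 Nat.prime_two (he.two_dvd.trans (ind_subgroup_dvd x)) h2
  all_goals obtain ⟨g, x, hinv, hx1, hxo⟩ := hodd
  all_goals obtain ⟨m', k, -, hk, hinv'⟩ := exists_two_inverter hinv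
  all_goals have htK : g ^ m' ∈ twoGen G := mem_twoGen hk
  all_goals have hxK : x ∈ twoGen G := by
              have h1 : x * x ∈ twoGen G := by
                have h3 := mul_mem ((twoGen_normal G).conj_mem _ htK x) (inv_mem htK)
                have e : x * g ^ m' * x⁻¹ * (g ^ m')⁻¹ = x * x := by
                  calc x * g ^ m' * x⁻¹ * (g ^ m')⁻¹ = x * (g ^ m' * x * (g ^ m')⁻¹)⁻¹ := by group
                    _ = x * x := by rw [hinv', inv_inv]
                rwa [e] at h3
              obtain ⟨j, hj⟩ := hxo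
              have h2' : (x * x) ^ (j + 1) = x := by
                rw [← pow_two, ← pow_mul, show 2 * (j + 1) = orderOf x + 1 by omega, pow_succ,
                  pow_orderOf_eq_one, one_mul]
              exact h2' ▸ pow_mem h1 _
  · refine ⟨⟨_, htK⟩, ⟨x, hxK⟩, Subtype.ext hinv', two_dvd_ind (g := (⟨_, htK⟩ : twoGen G)) ?_ ?_ (Subtype.ext hinv')⟩
    · rwa [Subgroup.orderOf_mk]
    · exact fun e => hx1 (congrArg Subtype.val e)
  · obtain ⟨m'', k', -, hk', hyinv⟩ := exists_two_inverter hy0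
    refine ⟨⟨_, mem_twoGen hk'⟩, ⟨y0, mem_twoGen hy2⟩, Subtype.ext hyinv, ?_, ?_⟩
    · exact Nat.not_even_iff_odd.1 fun he =>
        hy0co 2 Nat.prime_two (he.two_dvd.trans (ind_subgroup_dvd (⟨y0, mem_twoGen hy2⟩ : twoGen G))) h2
    · intro hone
      have hall : ∀ z ∈ twoGen G, Commute z y0 := fun z hz => congrArg Subtype.val
        (mem_center_iff.1 (mem_center_of_ind_eq_one hone) ⟨z, hz⟩)
      refine hx1 (hcl x ?_ hxo (g ^ m') ?_ hinv')
      · exact mem_centralizer_singleton_iff.2 (hall x hxK).eq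
      · exact mem_centralizer_singleton_iff.2 (hall _ htK).eq

end

end H3.RealGraph
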