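import Cfsg.Agent.H3.RealGraph.Basics
import Cfsg.Agent.H85.BrauerSuzuki

/-!
Groups in which centralizers of inverted elements of odd prime order are transitive on Sylow
`2`-subgroups: the case where all these centralizers have odd order.
-/

set_option autoImplicit false
set_option linter.style.haveILetI false

namespace H3.RealGraph

open Subgroup

variable {Γ : Type*} [Group Γ] [Finite Γ]

/-- Inverted elements of odd order fix no Sylow `2`-subgroup and their centralizers are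
transitive on Sylow `2`-subgroups. -/
structure SylHyp (Γ : Type*) [Group Γ] [Finite Γ] : Prop where
  core : Cfsg.pCore 2 Γ = ⊥
  trans : ∀ (r : ℕ) (x g : Γ), r.Prime → Odd r → orderOf x = r → Inv g x →
    ∀ P Q : Sylow 2 Γ, ∃ c ∈ centralizer ({x} : Set Γ), c • P = Q
  free : ∀ x g : Γ, Odd (orderOf x) → Inv g x → ∀ P : Sylow 2 Γ, x • P = P → x = 1

theorem conj_mem_smul {P : Sylow 2 Γ} {u : Γ} (hu : u ∈ (P : Subgroup Γ)) (g : Γ) :
    g * u * g⁻¹ ∈ ((g • P : Sylow 2 Γ) : Subgroup Γ) := by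
  rw [Sylow.coe_subgroup_smul, mem_pointwise_smul_iff_inv_smul_mem]
  convert hu using 1
  simp [mul_assoc]

theorem two_pow_one {i : Γ} (hi : orderOf i = 2) : i ^ (2 ^ 1) = 1 := by
  rw [pow_one, ← hi, pow_orderOf_eq_one]

theorem mem_of_smul_eq {P : Sylow 2 Γ} {u : Γ} {k : ℕ} (hu : u ^ (2 ^ k) = 1) (h : u • P = P) :
    u ∈ (P : Subgroup Γ) :=
  mem_sylow_of_normalizer P hu (Sylow.smul_eq_iff_mem_normalizer.1 h)

omit [Finite Γ] in
theorem smul_eq_of_mem {P : Sylow 2 Γ} {u : Γ} (hu : u ∈ (P : Subgroup Γ)) : u • P = P :=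
  Sylow.smul_eq_iff_mem_normalizer.2 (le_normalizer hu)

omit [Finite Γ] in
theorem commute_of_mem_centralizer {x g : Γ} (h : g ∈ centralizer ({x} : Set Γ)) : Commute g x :=
  mem_centralizer_singleton_iff.1 h

theorem SylHyp.exists_not_mem (h : SylHyp Γ) {i : Γ} (hi : i ≠ 1) :
    ∃ P : Sylow 2 Γ, i ∉ (P : Subgroup Γ) := by
  by_contra hall
  push Not at hall
  have hmem : i ∈ Cfsg.pCore 2 Γ := by
    rw [H1.pCore_eq_iInf_sylow 2, mem_iInf]
    exact hall
  rw [h.core, mem_bot] at hmem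
  exact hi hmem

omit [Finite Γ] in
/-- An involution of a subgroup outside its `2`-core inverts an element of odd prime order of
that subgroup. -/
theorem exists_prime_inverted [Finite Γ] {H : Subgroup Γ} {i : Γ} (hiH : i ∈ H) (hi : orderOf i = 2)
    (hO : (⟨i, hiH⟩ : H) ∉ Cfsg.pCore 2 H) :
    ∃ (r : ℕ) (y : Γ), r.Prime ∧ Odd r ∧ y ∈ H ∧ orderOf y = r ∧ Inv i y := by
  obtain ⟨y, hy1, hyodd, hyinv⟩ := H65.exists_odd_inverted
    (by rw [Subgroup.orderOf_mk]; exact hi) hO
  obtain ⟨k, r, hr, hro, hord, hinv⟩ := exists_prime_power hy1 hyodd hyinv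
  exact ⟨r, (y ^ k : H), hr, hro, (y ^ k).2, by rw [Subgroup.orderOf_coe]; exact hord,
    congrArg Subtype.val hinv⟩

theorem SylHyp.exists_prime_inverted (h : SylHyp Γ) {i : Γ} (hi : orderOf i = 2) :
    ∃ (r : ℕ) (y : Γ), r.Prime ∧ Odd r ∧ orderOf y = r ∧ Inv i y := by
  have hO : i ∉ Cfsg.pCore 2 Γ := by
    rw [h.core, mem_bot]
    exact H65.ne_one_of_two hi
  obtain ⟨y, hy1, hyodd, hyinv⟩ := H65.exists_odd_inverted hi hO
  obtain ⟨k, r, hr, hro, hord, hinv⟩ := exists_prime_power hy1 hyodd hyinv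
  exact ⟨r, _, hr, hro, hord, hinv⟩

/-- A `2`-element normalizing a subgroup of even order centralizes an involution of it. -/
theorem exists_involution_commute (C : Subgroup Γ) (hC : Even (Nat.card C)) {a : Γ} {k : ℕ}
    (ha : a ^ (2 ^ k) = 1) (hn : a ∈ normalizer (C : Set Γ)) :
    ∃ j ∈ C, orderOf j = 2 ∧ Commute a j := by
  classical
  let α := {j : C // orderOf j = 2}
  have : Fintype α := Fintype.ofFinite α
  let f : Function.End α := fun j =>
    ⟨⟨a * (j.1 : Γ) * a⁻¹, (mem_normalizer_iff.1 hn _).1 j.1.2⟩, by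
      rw [Subgroup.orderOf_mk, H65.two_conj]
      rw [Subgroup.orderOf_coe]
      exact j.2⟩
  have hf : ∀ (n : ℕ) (j : α), (((f ^ n) j).1 : Γ) = a ^ n * (j.1 : Γ) * (a ^ n)⁻¹ := by
    intro n
    induction n with
    | zero => intro j; simp only [pow_zero, one_mul, inv_one, mul_one]; rfl
    | succ n ih =>
      intro j
      rw [pow_succ']
      show a * (((f ^ n) j).1 : Γ) * a⁻¹ = _
      rw [ih, pow_succ']
      group
  have hfk : f ^ 2 ^ k = 1 := by
    funext j
    refine Subtype.ext (Subtype.ext ?_)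
    rw [hf, ha, one_mul, inv_one, mul_one]
    rfl
  haveI : Fact (Nat.Prime 2) := ⟨Nat.prime_two⟩
  have hmod := Equiv.Perm.card_fixedPoints_modEq (f := f) hfk
  have hodd : Odd (Fintype.card α) := by
    rw [← Nat.card_eq_fintype_card]
    exact H65.odd_numInv hC
  have hpos : 0 < Fintype.card f.fixedPoints := by
    rw [Nat.ModEq] at hmod
    rw [Nat.odd_iff] at hodd
    omega
  obtain ⟨⟨j, hj⟩⟩ := Fintype.card_pos_iff.1 hpos
  refine ⟨j.1, j.1.2, by rw [Subgroup.orderOf_coe]; exact j.2, ?_⟩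
  have h1 : a * (j.1 : Γ) * a⁻¹ = j.1 := congrArg (fun t : α => (t.1 : Γ)) hj
  exact mul_inv_eq_iff_eq_mul.1 h1

/-- A group with a central-modulo-core involution in a solvable centralizer is solvable. -/
theorem isSolvable_of_zCentral {z : Γ} (hz : orderOf z = 2) (hc : H85.ZCentral z)
    (hs : Group.IsSolvable (centralizer ({z} : Set Γ))) : Group.IsSolvable Γ := by
  haveI : Fact (Nat.Prime 2) := ⟨Nat.prime_two⟩
  set O := Cfsg.pPrimeCore 2 Γ with hO
  haveI : O.Normal := H1.pPrimeCore_normal' 2 Γ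
  have hOc : (Nat.card O).Coprime 2 := H1.card_pPrimeCore_coprime 2 Γ
  haveI : Group.IsSolvable O := H16.FT.oddOrder (Nat.coprime_two_right.1 hOc)
  set π := QuotientGroup.mk' O with hπ
  have hsurj : Function.Surjective (π.comp (centralizer ({z} : Set Γ)).subtype) := by
    intro q
    obtain ⟨g, rfl⟩ := QuotientGroup.mk'_surjective O q
    have hA : IsPGroup 2 (zpowers (g⁻¹ * z * g)) := IsPGroup.of_card (n := 1) (by
      rw [Nat.card_zpowers, pow_one]
      simpa using H65.two_conj hz g⁻¹)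
    have hB : IsPGroup 2 (zpowers z) := IsPGroup.of_card (n := 1) (by
      rw [Nat.card_zpowers, hz, pow_one])
    have hle : zpowers (g⁻¹ * z * g) ≤ zpowers z ⊔ O := by
      rw [zpowers_le]
      have h1 := hc g⁻¹
      have h2 : g⁻¹ * z * g = z * (z * g⁻¹ * z⁻¹ * g⁻¹⁻¹) := by
        rw [inv_inv, H65.inv_of_two hz, mul_assoc z g⁻¹ z, mul_assoc z, H65.mul_mul_self hz]
      rw [h2]
      exact mul_mem_sup (mem_zpowers z) h1
    obtain ⟨n, hn, hnc⟩ := H35.exists_conj_mem_of_le_sup O hOc hA hB hle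
    have h3 := hnc _ (mem_zpowers _)
    rw [mem_zpowers_iff] at h3
    obtain ⟨i, hi⟩ := h3
    have h4 : n * (g⁻¹ * z * g) * n⁻¹ = z := by
      have hne : n * (g⁻¹ * z * g) * n⁻¹ ≠ 1 := fun e => H65.ne_one_of_two hz (by
        have e1 : g⁻¹ * z * g = 1 := by simpa using e
        calc z = g * (g⁻¹ * z * g) * g⁻¹ := by group
          _ = 1 := by rw [e1]; group)
      rw [← hi] at hne ⊢
      rcases Int.even_or_odd' i with ⟨j, rfl | rfl⟩
      · rw [zpow_mul, zpow_two, H65.mul_self_of_two hz, one_zpow] at hne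
        exact absurd rfl hne
      · rw [zpow_add_one, zpow_mul, zpow_two, H65.mul_self_of_two hz, one_zpow, one_mul]
    refine ⟨⟨n * g⁻¹, ?_⟩⁻¹, ?_⟩
    · rw [mem_centralizer_singleton_iff]
      calc n * g⁻¹ * z = n * (g⁻¹ * z * g) * n⁻¹ * (n * g⁻¹) := by group
        _ = z * (n * g⁻¹) := by rw [h4]
    · show π ((n * g⁻¹)⁻¹) = π g
      have h5 : π n = 1 := (QuotientGroup.eq_one_iff n).2 hn
      rw [map_inv, map_mul, h5, one_mul, map_inv, inv_inv]
  haveI := hs
  haveI : Group.IsSolvable (Γ ⧸ O) := Group.isSolvable_of_surjective hsurj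
  exact Group.isSolvable_of_ker_le_range O.subtype π (by rw [QuotientGroup.ker_mk', range_subtype])

namespace SylHyp

variable (h : SylHyp Γ)
  (hodd : ∀ (r : ℕ) (x g : Γ), r.Prime → Odd r → orderOf x = r → Inv g x →
    Odd (Nat.card (centralizer ({x} : Set Γ))))

include h hodd

omit h in
theorem twoClosed_centralizer {w : Γ} (hw : orderOf w = 2) :
    TwoClosed (centralizer ({w} : Set Γ)) := by
  refine twoClosed_of_prime _ fun x hx r hr hro hord g _ hinv => ?_
  have hmem : w ∈ centralizer ({x} : Set Γ) :=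
    mem_centralizer_singleton_iff.2 (commute_of_mem_centralizer hx).eq.symm
  have h2 := Subgroup.orderOf_dvd_natCard _ hmem
  rw [hw] at h2
  exact (Nat.not_even_iff_odd.2 (hodd r x g hr hro hord hinv)) (even_iff_two_dvd.2 h2)

theorem central_conj {P : Sylow 2 Γ} {z : Γ} (hz : orderOf z = 2)
    (hzP : (P : Subgroup Γ) ≤ centralizer ({z} : Set Γ)) (g : Γ)
    (hg : g * z * g⁻¹ ∈ (P : Subgroup Γ)) : g • P = P := by
  obtain ⟨r, x, hr, hro, hord, hinv⟩ := h.exists_prime_inverted hz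
  obtain ⟨c, hc, hcP⟩ := h.trans r x z hr hro hord hinv P (g • P)
  have hzin : z ∈ (P : Subgroup Γ) :=
    mem_sylow_of_normalizer P (two_pow_one hz) (by
      rw [mem_normalizer_iff]
      intro u
      constructor
      · intro hu
        rwa [← (commute_of_mem_centralizer (hzP hu)).eq, mul_inv_cancel_right]
      · intro hu
        have hc' := commute_of_mem_centralizer (hzP hu)
        have h1 : u = z * u * z⁻¹ := by
          calc u = z⁻¹ * (z * u * z⁻¹ * z) := by group
            _ = z⁻¹ * (z * (z * u * z⁻¹)) := by rw [hc'.eq]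
            _ = z * u * z⁻¹ := by rw [inv_mul_cancel_left]
        exact h1 ▸ hu)
  have hw2 := H65.two_conj hz g
  have hP1 : ((g • P : Sylow 2 Γ) : Subgroup Γ) ≤ centralizer ({g * z * g⁻¹} : Set Γ) := by
    intro u hu
    rw [Sylow.coe_subgroup_smul, mem_pointwise_smul_iff_inv_smul_mem] at hu
    have h1 := commute_of_mem_centralizer (hzP hu)
    simp only [MulAut.smul_def, MulAut.inv_def, MulAut.conj_symm_apply] at h1
    rw [mem_centralizer_singleton_iff]
    calc u * (g * z * g⁻¹) = g * ((g⁻¹ * u * g) * z) * g⁻¹ := by group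
      _ = g * (z * (g⁻¹ * u * g)) * g⁻¹ := by rw [h1.eq]
      _ = g * z * g⁻¹ * u := by group
  have hzc : z ∈ centralizer ({g * z * g⁻¹} : Set Γ) := by
    rw [mem_centralizer_singleton_iff]
    exact (commute_of_mem_centralizer (hzP hg)).eq.symm
  have hzP1 : z ∈ ((g • P : Sylow 2 Γ) : Subgroup Γ) :=
    (twoClosed_centralizer hodd hw2).mem_sylow hP1 hzc (two_pow_one hz)
  have hzc' : Commute z (c * z * c⁻¹) := by
    have h1 : c⁻¹ * z * c ∈ (P : Subgroup Γ) := by
      rw [← hcP, Sylow.coe_subgroup_smul, mem_pointwise_smul_iff_inv_smul_mem] at hzP1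
      simpa [MulAut.smul_def] using hzP1
    have h2 := commute_of_mem_centralizer (hzP h1)
    show z * (c * z * c⁻¹) = c * z * c⁻¹ * z
    calc z * (c * z * c⁻¹) = c * ((c⁻¹ * z * c) * z) * c⁻¹ := by group
      _ = c * (z * (c⁻¹ * z * c)) * c⁻¹ := by rw [h2.eq]
      _ = _ := by group
  have hk : z * (c * z * c⁻¹) = 1 := by
    have hkx : z * (c * z * c⁻¹) ∈ centralizer ({x} : Set Γ) := by
      rw [mem_centralizer_singleton_iff]
      have hcx : c * x * c⁻¹ = x := by
        rw [(commute_of_mem_centralizer hc).eq, mul_inv_cancel_right]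
      have e2 : z * x = x⁻¹ * z := by rw [← hinv]; group
      have e1 : c * z * c⁻¹ * x = x⁻¹ * (c * z * c⁻¹) := by
        calc c * z * c⁻¹ * x = c * z * c⁻¹ * (c * x * c⁻¹) := by rw [hcx]
          _ = c * (z * x) * c⁻¹ := by group
          _ = c * (x⁻¹ * z) * c⁻¹ := by rw [e2]
          _ = (c * x * c⁻¹)⁻¹ * (c * z * c⁻¹) := by group
          _ = x⁻¹ * (c * z * c⁻¹) := by rw [hcx]
      have e3 : z * x⁻¹ = x * z := by
        have : z * x⁻¹ * z⁻¹ = x := by
          calc z * x⁻¹ * z⁻¹ = (z * x * z⁻¹)⁻¹ := by group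
            _ = x := by rw [hinv, inv_inv]
        calc z * x⁻¹ = z * x⁻¹ * z⁻¹ * z := by group
          _ = x * z := by rw [this]
      calc z * (c * z * c⁻¹) * x = z * (c * z * c⁻¹ * x) := by group
        _ = z * x⁻¹ * (c * z * c⁻¹) := by rw [e1]; group
        _ = x * z * (c * z * c⁻¹) := by rw [e3]
        _ = x * (z * (c * z * c⁻¹)) := by group
    have hsq : (z * (c * z * c⁻¹)) * (z * (c * z * c⁻¹)) = 1 := by
      calc (z * (c * z * c⁻¹)) * (z * (c * z * c⁻¹))
          = z * ((c * z * c⁻¹) * z) * (c * z * c⁻¹) := by group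
        _ = z * (z * (c * z * c⁻¹)) * (c * z * c⁻¹) := by rw [hzc'.eq]
        _ = (z * z) * (c * (z * z) * c⁻¹) := by group
        _ = 1 := by rw [H65.mul_self_of_two hz]; group
    exact eq_one_of_odd_sq
      (Odd.of_dvd_nat (hodd r x z hr hro hord hinv) (Subgroup.orderOf_dvd_natCard _ hkx)) hsq
  have hcz : c ∈ centralizer ({z} : Set Γ) := by
    rw [mem_centralizer_singleton_iff]
    have h1 : c * z * c⁻¹ = z := by
      rw [← mul_eq_one_iff_inv_eq.1 hk, H65.inv_of_two hz]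
    exact mul_inv_eq_iff_eq_mul.1 h1
  rw [← hcP, (twoClosed_centralizer hodd hz).smul_eq hzP hcz]

omit h hodd in
theorem exists_central_involution (P : Sylow 2 Γ) {i : Γ} (hi : i ∈ (P : Subgroup Γ))
    (hi1 : i ≠ 1) : ∃ z ∈ (P : Subgroup Γ), orderOf z = 2 ∧
      (P : Subgroup Γ) ≤ centralizer ({z} : Set Γ) := by
  haveI : Nontrivial (P : Subgroup Γ) := ⟨⟨⟨i, hi⟩, 1, fun e => hi1 (congrArg Subtype.val e)⟩⟩
  haveI : Fact (Nat.Prime 2) := ⟨Nat.prime_two⟩
  haveI := P.isPGroup'.center_nontrivial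
  have h2 : 2 ∣ Nat.card (Subgroup.center (P : Subgroup Γ)) := by
    obtain ⟨n, hn⟩ := (P.isPGroup'.to_subgroup (Subgroup.center (P : Subgroup Γ))).exists_card_eq
    rw [hn]
    rcases n with _ | n
    · rw [pow_zero] at hn
      exact absurd hn (Finite.one_lt_card_iff_nontrivial.2 inferInstance).ne'
    · exact dvd_pow_self 2 n.succ_ne_zero
  obtain ⟨z, hz⟩ := exists_prime_orderOf_dvd_card' 2 h2
  refine ⟨z.1.1, z.1.2, by rw [Subgroup.orderOf_coe, Subgroup.orderOf_coe]; exact hz, fun u hu => ?_⟩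
  rw [mem_centralizer_singleton_iff]
  exact congrArg Subtype.val (mem_center_iff.1 z.2 ⟨u, hu⟩)

theorem sylow_inj {w : Γ} (hw : orderOf w = 2) {P Q : Sylow 2 Γ} (hP : w ∈ (P : Subgroup Γ))
    (hQ : w ∈ (Q : Subgroup Γ)) : P = Q := by
  obtain ⟨z, hzP, hz, hPz⟩ := exists_central_involution P hP (H65.ne_one_of_two hw)
  obtain ⟨g, rfl⟩ := MulAction.exists_smul_eq Γ P Q
  have hT := twoClosed_centralizer hodd hw
  have hmem : ∀ {P' : Sylow 2 Γ} {z' : Γ}, (P' : Subgroup Γ) ≤ centralizer ({z'} : Set Γ) →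
      w ∈ (P' : Subgroup Γ) → z' ∈ centralizer ({w} : Set Γ) := fun hle hw' =>
    mem_centralizer_singleton_iff.2 (commute_of_mem_centralizer (hle hw')).eq.symm
  have hQz : ((g • P : Sylow 2 Γ) : Subgroup Γ) ≤ centralizer ({g * z * g⁻¹} : Set Γ) := by
    intro u hu
    rw [Sylow.coe_subgroup_smul, mem_pointwise_smul_iff_inv_smul_mem] at hu
    have h1 := commute_of_mem_centralizer (hPz hu)
    simp only [MulAut.smul_def, MulAut.inv_def, MulAut.conj_symm_apply] at h1
    rw [mem_centralizer_singleton_iff]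
    calc u * (g * z * g⁻¹) = g * ((g⁻¹ * u * g) * z) * g⁻¹ := by group
      _ = g * (z * (g⁻¹ * u * g)) * g⁻¹ := by rw [h1.eq]
      _ = g * z * g⁻¹ * u := by group
  -- a Sylow subgroup containing both central involutions
  obtain ⟨W⟩ := (inferInstance : Nonempty (Sylow 2 (centralizer ({w} : Set Γ))))
  obtain ⟨R, hR⟩ := (W.isPGroup'.map (centralizer ({w} : Set Γ)).subtype).exists_le_sylow
  haveI := hT.sylow_normal W
  have hin : ∀ u ∈ centralizer ({w} : Set Γ), orderOf u = 2 → u ∈ (R : Subgroup Γ) := by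
    intro u hu hu2
    refine hR ⟨⟨u, hu⟩, mem_sylow_of_normalizer W (two_pow_one ?_) ?_, rfl⟩
    · rw [Subgroup.orderOf_mk]; exact hu2
    · rw [Subgroup.normalizer_eq_top]; exact mem_top _
  have hzR := hin z (hmem hPz hP) hz
  have hz'R := hin _ (hmem hQz hQ) (H65.two_conj hz g)
  obtain ⟨a, rfl⟩ := MulAction.exists_smul_eq Γ P R
  have key : ∀ b : Γ, b * z * b⁻¹ ∈ ((a • P : Sylow 2 Γ) : Subgroup Γ) → b • P = a • P := by
    intro b hb
    rw [Sylow.coe_subgroup_smul, mem_pointwise_smul_iff_inv_smul_mem] at hb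
    have h1 : (a⁻¹ * b) * z * (a⁻¹ * b)⁻¹ ∈ (P : Subgroup Γ) := by
      simpa [MulAut.smul_def, mul_assoc] using hb
    have h2 := central_conj h hodd hz hPz _ h1
    rw [mul_smul, inv_smul_eq_iff] at h2
    exact h2
  rw [key g hz'R, ← key 1 (by simpa using hzR), one_smul]

theorem isSolvable_of_odd : Group.IsSolvable Γ := by
  classical
  haveI : Fact (Nat.Prime 2) := ⟨Nat.prime_two⟩
  by_cases heven : 2 ∣ Nat.card Γ
  swap
  · exact H16.FT.oddOrder (Nat.not_even_iff_odd.1 fun he => heven he.two_dvd)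
  obtain ⟨i, hi⟩ := exists_prime_orderOf_dvd_card' 2 heven
  obtain ⟨P, hiP⟩ : ∃ P : Sylow 2 Γ, i ∈ (P : Subgroup Γ) := by
    obtain ⟨P, hP⟩ := (IsPGroup.of_card (n := 1) (by rw [Nat.card_zpowers, hi, pow_one]) :
      IsPGroup 2 (zpowers i)).exists_le_sylow
    exact ⟨P, hP (mem_zpowers i)⟩
  by_cases hone : ∀ v ∈ (P : Subgroup Γ), orderOf v = 2 → v = i
  · -- a unique involution: the `Z*`-theorem
    obtain ⟨z, hzP, hz, hPz⟩ := exists_central_involution P hiP (H65.ne_one_of_two hi)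
    obtain rfl := hone z hzP hz
    have hiso : Cfsg.IsIsolatedInvolution z := by
      refine ⟨hz, fun g hg => ?_⟩
      exact hone _ ((twoClosed_centralizer hodd hz).mem_sylow hPz
        (mem_centralizer_singleton_iff.2 hg.eq.symm) (two_pow_one (H65.two_conj hz g)))
        (H65.two_conj hz g)
    exact isSolvable_of_zCentral hz (H85.zStar hiso) (twoClosed_centralizer hodd hz).isSolvable
  -- two involutions in every Sylow subgroup: pigeonhole
  push Not at hone
  obtain ⟨v0, hv0P, hv0, hv0i⟩ := hone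
  exfalso
  choose tr htr using fun Q : {Q : Sylow 2 Γ // Q ≠ P} => MulAction.exists_smul_eq Γ P Q.1
  let v : {Q : Sylow 2 Γ // Q ≠ P} × Bool → Γ := fun p =>
    tr p.1 * (bif p.2 then i else v0) * (tr p.1)⁻¹
  have hv2 : ∀ p, orderOf (v p) = 2 := fun p => by
    refine H65.two_conj ?_ _
    rcases p.2 <;> assumption
  have hvQ : ∀ p, v p ∈ (p.1.1 : Subgroup Γ) := fun p => by
    have h1 : (bif p.2 then i else v0) ∈ (P : Subgroup Γ) := by rcases p.2 <;> assumption
    have h2 := conj_mem_smul h1 (tr p.1)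
    rw [htr] at h2
    exact h2
  have hne : ∀ p, v p • P ≠ P := fun p he =>
    p.1.2 (sylow_inj h hodd (hv2 p) (mem_of_smul_eq (two_pow_one (hv2 p)) he) (hvQ p)).symm
  let Φ : {Q : Sylow 2 Γ // Q ≠ P} × Bool → {Q : Sylow 2 Γ // Q ≠ P} := fun p =>
    ⟨v p • P, hne p⟩
  have hnot : ¬ Function.Injective Φ := by
    intro hinj
    have h1 := Nat.card_le_card_of_injective Φ hinj
    rw [Nat.card_prod, Nat.card_eq_fintype_card (α := Bool), Fintype.card_bool] at h1
    obtain ⟨Q, hQ⟩ := h.exists_not_mem (H65.ne_one_of_two hi)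
    haveI : Nonempty {Q : Sylow 2 Γ // Q ≠ P} := ⟨⟨Q, fun e => hQ (e ▸ hiP)⟩⟩
    have h0 := Nat.card_pos (α := {Q : Sylow 2 Γ // Q ≠ P})
    omega
  simp only [Function.Injective, not_forall] at hnot
  obtain ⟨p, q, hpq, hne'⟩ := hnot
  have hvne : v p ≠ v q := by
    intro e
    have hfst : p.1 = q.1 := Subtype.ext (sylow_inj h hodd (hv2 p) (hvQ p) (e ▸ hvQ q))
    apply hne'
    refine Prod.ext hfst ?_
    have e' : (bif p.2 then i else v0) = (bif q.2 then i else v0) := by
      have := e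
      simp only [v, hfst] at this
      exact mul_left_cancel (mul_right_cancel this)
    cases hp2 : p.2 <;> cases hq2 : q.2 <;> simp_all
  have hpq' : v p • P = v q • P := congrArg Subtype.val hpq
  set y := v p * v q with hy
  have hyP : y • P = P := by
    rw [hy, mul_smul, ← hpq', ← mul_smul, H65.mul_self_of_two (hv2 p), one_smul]
  have hyinv : Inv (v p) y := H65.conj_prod (hv2 p) (hv2 q)
  by_cases hyodd : Odd (orderOf y)
  · apply hvne
    have := h.free y (v p) hyodd hyinv P hyP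
    rw [hy, mul_eq_one_iff_eq_inv, H65.inv_of_two (hv2 q)] at this
    exact this
  rw [Nat.not_odd_iff_even, even_iff_two_dvd] at hyodd
  set y0 := y ^ (orderOf y / 2) with hy0def
  have hy0 : orderOf y0 = 2 := orderOf_pow_orderOf_div (orderOf_pos y).ne' hyodd
  have hy0P : y0 ∈ (P : Subgroup Γ) := mem_of_smul_eq (two_pow_one hy0) (by
    exact Sylow.smul_eq_iff_mem_normalizer.2
      (pow_mem (Sylow.smul_eq_iff_mem_normalizer.1 hyP) _))
  have hcomm : v p * y0 * (v p)⁻¹ = y0 := by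
    rw [hy0def, inv_pow_pow hyinv, ← hy0def, H65.inv_of_two hy0]
  have h3 := conj_mem_smul hy0P (v p)
  rw [hcomm] at h3
  exact hne p (sylow_inj h hodd hy0 hy0P h3).symm

end SylHyp

end H3.RealGraph
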