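import Cfsg.Agent.H3.RealGraph.SylowSet
import Cfsg.Agent.H85.QuatEightSylow

/-!
Groups in which centralizers of inverted elements of odd prime order are transitive on Sylow
`2`-subgroups: the case with an abelian centralizer of odd order of an inverted element.
-/

set_option autoImplicit false
set_option linter.style.haveILetI false

namespace H3.RealGraph

open Subgroup

variable {Γ : Type*} [Group Γ] [Finite Γ]

omit [Finite Γ] in
omit [Finite Γ] in
theorem oconj (g a : Γ) : orderOf (g * a * g⁻¹) = orderOf a := (MulAut.conj g).orderOf_eq a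

/-- A fixed coset: a `p`-subgroup is conjugate into a subgroup of index prime to `p`. -/
theorem exists_conj_le {p : ℕ} [Fact p.Prime] (H Δ U : Subgroup Γ) (hU : U ≤ Δ)
    (hp : IsPGroup p U) (hi : ¬ p ∣ H.relIndex Δ) :
    ∃ d ∈ Δ, ∀ u ∈ U, d⁻¹ * u * d ∈ H := by
  have hU' : IsPGroup p (U.subgroupOf Δ) := hp.of_equiv (subgroupOfEquivOfLe hU).symm
  have hmod := hU'.card_modEq_card_fixedPoints (Δ ⧸ H.subgroupOf Δ)
  have hne : Nat.card (MulAction.fixedPoints (U.subgroupOf Δ) (Δ ⧸ H.subgroupOf Δ)) ≠ 0 := by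
    intro h0
    rw [h0] at hmod
    exact hi (Nat.modEq_zero_iff_dvd.1 hmod)
  obtain ⟨⟨q, hq⟩⟩ := (Nat.card_ne_zero.1 hne).1
  obtain ⟨d, rfl⟩ := QuotientGroup.mk_surjective q
  refine ⟨d, d.2, fun u hu => ?_⟩
  have h1 : ((⟨u, hU hu⟩ : Δ) * d : Δ ⧸ H.subgroupOf Δ) = (d : Δ ⧸ H.subgroupOf Δ) :=
    hq ⟨⟨u, hU hu⟩, mem_subgroupOf.2 hu⟩
  have h2 := QuotientGroup.eq.1 h1.symm
  rw [mem_subgroupOf] at h2
  simpa [mul_assoc] using h2

omit [Finite Γ] in
theorem relIndex_eq_of_cover [Finite Γ] {M H Δ : Subgroup Γ} (hle : H ≤ Δ)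
    (hsurj : ∀ n ∈ Δ, ∃ c ∈ H, c * n ∈ M) : M.relIndex Δ = M.relIndex H := by
  show Nat.card (Δ ⧸ M.subgroupOf Δ) = Nat.card (H ⧸ M.subgroupOf H)
  refine (Nat.card_congr (Equiv.ofBijective (quotientSubgroupOfEmbeddingOfLE M hle)
    ⟨(quotientSubgroupOfEmbeddingOfLE M hle).injective, fun q => ?_⟩)).symm
  obtain ⟨n, rfl⟩ := QuotientGroup.mk_surjective q
  obtain ⟨c, hc, hcn⟩ := hsurj n n.2
  refine ⟨QuotientGroup.mk ⟨c⁻¹, H.inv_mem hc⟩, ?_⟩
  rw [quotientSubgroupOfEmbeddingOfLE_apply_mk, QuotientGroup.eq, mem_subgroupOf]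
  simpa using hcn

omit [Finite Γ] in
theorem isPGroup_closure_commute [Finite Γ] {i j : Γ} (hi : orderOf i = 2) (hj : orderOf j = 2)
    (hc : Commute i j) : IsPGroup 2 ↥(closure ({i, j} : Set Γ)) := by
  refine H65.isPGroup_closure_pair hi hj (k := 1) (orderOf_dvd_of_pow_eq_one ?_)
  rw [pow_one, hc.mul_pow, pow_two, pow_two, H65.mul_self_of_two hi, H65.mul_self_of_two hj,
    one_mul]

theorem zpowers_eq_of_mem {ℓ : ℕ} {a b : Γ} (ha : orderOf a = ℓ) (hb : orderOf b = ℓ)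
    (hba : b ∈ zpowers a) : zpowers b = zpowers a := by
  refine eq_of_le_of_card_ge (zpowers_le.2 hba) ?_
  rw [Nat.card_zpowers, Nat.card_zpowers, ha, hb]

/-- Two elements of order `ℓ` of a subgroup generate subgroups conjugate in it, when elements of
order `ℓ` have abelian centralizers and commute only with their own powers. -/
theorem exists_conj_zpowers_of {ℓ : ℕ} (hℓ : ℓ.Prime)
    (hcomm : ∀ a : Γ, orderOf a = ℓ → ∀ u ∈ centralizer ({a} : Set Γ),
      ∀ v ∈ centralizer ({a} : Set Γ), Commute u v)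
    (huniq : ∀ a b : Γ, orderOf a = ℓ → orderOf b = ℓ → Commute a b → b ∈ zpowers a)
    {H : Subgroup Γ} {a b : Γ} (ha : a ∈ H) (hb : b ∈ H) (hao : orderOf a = ℓ)
    (hbo : orderOf b = ℓ) : ∃ c ∈ H, zpowers (c * a * c⁻¹) = zpowers b := by
  haveI : Fact ℓ.Prime := ⟨hℓ⟩
  have hpa : IsPGroup ℓ (zpowers (⟨a, ha⟩ : H)) :=
    IsPGroup.of_card (n := 1) (by rw [Nat.card_zpowers, Subgroup.orderOf_mk, hao, pow_one])
  have hpb : IsPGroup ℓ (zpowers (⟨b, hb⟩ : H)) :=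
    IsPGroup.of_card (n := 1) (by rw [Nat.card_zpowers, Subgroup.orderOf_mk, hbo, pow_one])
  obtain ⟨A, hA⟩ := hpa.exists_le_sylow
  obtain ⟨B, hB⟩ := hpb.exists_le_sylow
  obtain ⟨c, hc⟩ := MulAction.exists_smul_eq H A B
  have hca : (c * ⟨a, ha⟩ * c⁻¹ : H) ∈ (B : Subgroup H) := by
    rw [← hc, Sylow.coe_subgroup_smul, mem_pointwise_smul_iff_inv_smul_mem]
    have := hA (mem_zpowers _)
    convert this using 1
    simp [mul_assoc]
  refine ⟨c, c.2, (zpowers_eq_of_mem hbo ((oconj (c : Γ) a).trans hao) ?_)⟩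
  refine huniq b _ hbo ((oconj (c : Γ) a).trans hao) ?_
  -- a Sylow `ℓ`-subgroup has a central element of order `ℓ`, so it is abelian
  set S : Subgroup Γ := (B : Subgroup H).map H.subtype with hS
  have hSp : IsPGroup ℓ S := B.isPGroup'.map _
  have hbS : b ∈ S := ⟨⟨b, hb⟩, hB (mem_zpowers _), rfl⟩
  have haS : (c : Γ) * a * (c : Γ)⁻¹ ∈ S := ⟨_, hca, rfl⟩
  haveI : Nontrivial S := ⟨⟨⟨b, hbS⟩, 1, fun e => by
    have e' : b = 1 := congrArg Subtype.val e
    rw [e', orderOf_one] at hbo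
    exact hℓ.ne_one hbo.symm⟩⟩
  haveI := hSp.center_nontrivial
  have hd : ℓ ∣ Nat.card (Subgroup.center S) := by
    obtain ⟨n, hn⟩ := (hSp.to_subgroup (Subgroup.center S)).exists_card_eq
    rw [hn]
    rcases n with _ | n
    · rw [pow_zero] at hn
      exact absurd hn (Finite.one_lt_card_iff_nontrivial.2 inferInstance).ne'
    · exact dvd_pow_self ℓ n.succ_ne_zero
  obtain ⟨z, hz⟩ := exists_prime_orderOf_dvd_card' ℓ hd
  have hzc : ∀ u ∈ S, u ∈ centralizer ({(z.1.1 : Γ)} : Set Γ) := fun u hu =>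
    mem_centralizer_singleton_iff.2 (congrArg Subtype.val (mem_center_iff.1 z.2 ⟨u, hu⟩))
  exact hcomm z.1.1 (by rw [Subgroup.orderOf_coe, Subgroup.orderOf_coe]; exact hz)
    b (hzc b hbS) _ (hzc _ haS)

/-- An element `L` of prime order with abelian centralizer of odd order; the centralizers of
inverted elements of odd prime order have index prime to the number of Sylow `2`-subgroups. -/
structure TorusHyp (Γ : Type*) [Group Γ] [Finite Γ] (ℓ : ℕ) (L gL : Γ) : Prop where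
  syl : SylHyp Γ
  prime : ℓ.Prime
  odd : Odd ℓ
  ord : orderOf L = ℓ
  inv : Inv gL L
  cop : ∀ (r : ℕ) (x g : Γ), r.Prime → Odd r → orderOf x = r → Inv g x →
    (centralizer ({x} : Set Γ)).index.Coprime (Nat.card (Sylow 2 Γ))
  comm : ∀ a : Γ, orderOf a = ℓ → ∀ u ∈ centralizer ({a} : Set Γ),
    ∀ v ∈ centralizer ({a} : Set Γ), Commute u v
  oddCent : ∀ a : Γ, orderOf a = ℓ → Odd (Nat.card (centralizer ({a} : Set Γ)))
  uniq : ∀ a b : Γ, orderOf a = ℓ → orderOf b = ℓ → Commute a b → b ∈ zpowers a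

namespace TorusHyp

variable {ℓ : ℕ} {L gL : Γ} (h : TorusHyp Γ ℓ L gL)

/-- The normalizer of the subgroup generated by `L`. -/
local notation "𝔐" => normalizer ((zpowers L : Subgroup Γ) : Set Γ)

/-- The centralizer of `L`. -/
local notation "𝔗" => centralizer (Singleton.singleton L : Set Γ)

include h

theorem exists_conj_zpowers {H : Subgroup Γ} {a b : Γ} (ha : a ∈ H) (hb : b ∈ H)
    (hao : orderOf a = ℓ) (hbo : orderOf b = ℓ) :
    ∃ c ∈ H, zpowers (c * a * c⁻¹) = zpowers b := by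
  exact exists_conj_zpowers_of h.prime h.comm h.uniq ha hb hao hbo

omit h in
theorem mem_normalizer_zpowers {a m : Γ} (he : zpowers (m * a * m⁻¹) = zpowers a) :
    m ∈ normalizer ((zpowers a : Subgroup Γ) : Set Γ) := by
  rw [mem_normalizer_iff_map_conj_eq, MonoidHom.map_zpowers]
  exact he

/-- The Frattini argument. -/
theorem frattini {H Δ : Subgroup Γ} (hle : H ≤ Δ) (hn : ∀ n ∈ Δ, n * L * n⁻¹ ∈ H) :
    (𝔐).relIndex Δ = (𝔐).relIndex H := by
  refine relIndex_eq_of_cover hle fun n hn' => ?_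
  have hL : L ∈ H := by simpa using hn 1 (one_mem Δ)
  obtain ⟨c, hc, he⟩ := h.exists_conj_zpowers (hn n hn') hL ((oconj n L).trans h.ord) h.ord
  refine ⟨c, hc, mem_normalizer_zpowers ?_⟩
  rw [← he]
  congr 1
  group

theorem inv_of_involution {m : Γ} (hm : orderOf m = 2) (hmM : m ∈ 𝔐) : Inv m L := by
  have hu : m * L * m⁻¹ ∈ zpowers L := (mem_normalizer_iff.1 hmM L).1 (mem_zpowers L)
  set u := m * L * m⁻¹ * L with hu'
  have huz : u ∈ zpowers L := mul_mem hu (mem_zpowers L)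
  have hum : m * u * m⁻¹ = u := by
    obtain ⟨k, hk⟩ := mem_zpowers_iff.1 hu
    have e : m * (m * L * m⁻¹) * m⁻¹ = L := by
      calc m * (m * L * m⁻¹) * m⁻¹ = (m * m) * L * (m * m)⁻¹ := by group
        _ = L := by rw [H65.mul_self_of_two hm, one_mul, inv_one, mul_one]
    calc m * u * m⁻¹ = (m * (m * L * m⁻¹) * m⁻¹) * (m * L * m⁻¹) := by rw [hu']; group
      _ = L * (m * L * m⁻¹) := by rw [e]
      _ = u := by rw [hu', ← hk]; group
  by_cases h1 : u = 1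
  · exact mul_eq_one_iff_eq_inv.1 h1
  exfalso
  haveI : Fact ℓ.Prime := ⟨h.prime⟩
  have hord : orderOf u = ℓ := by
    obtain ⟨k, hk⟩ := mem_zpowers_iff.1 huz
    refine orderOf_eq_prime ?_ h1
    rw [← hk, ← zpow_natCast, ← zpow_mul, mul_comm, zpow_mul, zpow_natCast, ← h.ord,
      pow_orderOf_eq_one, one_zpow]
  have hmc : m ∈ centralizer ({u} : Set Γ) :=
    mem_centralizer_singleton_iff.2 (mul_inv_eq_iff_eq_mul.1 hum)
  have h2 := Subgroup.orderOf_dvd_natCard _ hmc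
  rw [hm] at h2
  exact (Nat.not_even_iff_odd.2 (h.oddCent u hord)) (even_iff_two_dvd.2 h2)

theorem eq_of_commute {i j : Γ} (hi : orderOf i = 2) (hj : orderOf j = 2) (hiM : i ∈ 𝔐)
    (hjM : j ∈ 𝔐) (hc : Commute i j) : i = j := by
  have hk : i * j ∈ 𝔗 := by
    rw [mem_centralizer_singleton_iff]
    have h1 : i * L = L⁻¹ * i := mul_inv_eq_iff_eq_mul.1 (h.inv_of_involution hi hiM)
    have h2 : j * L = L⁻¹ * j := mul_inv_eq_iff_eq_mul.1 (h.inv_of_involution hj hjM)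
    have h3 : i * L⁻¹ = L * i := by
      calc i * L⁻¹ = L * (L⁻¹ * i) * L⁻¹ := by group
        _ = L * i := by rw [← h1]; group
    rw [mul_assoc, h2, ← mul_assoc, h3, mul_assoc]
  have hsq : i * j * (i * j) = 1 := by
    calc i * j * (i * j) = i * (j * i) * j := by group
      _ = i * (i * j) * j := by rw [hc.eq]
      _ = (i * i) * (j * j) := by group
      _ = 1 := by rw [H65.mul_self_of_two hi, H65.mul_self_of_two hj, one_mul]
  have := eq_one_of_odd_sq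
    (Odd.of_dvd_nat (h.oddCent L h.ord) (Subgroup.orderOf_dvd_natCard _ hk)) hsq
  rw [mul_eq_one_iff_eq_inv, H65.inv_of_two hj] at this
  exact this

theorem dvd_card_sylow {r : ℕ} {y g : Γ} (hr : r.Prime) (hro : Odd r) (hy : orderOf y = r)
    (hinv : Inv g y) : r ∣ Nat.card (Sylow 2 Γ) := by
  haveI : Fact r.Prime := ⟨hr⟩
  have hp : IsPGroup r (zpowers y) := IsPGroup.of_card (n := 1) (by
    rw [Nat.card_zpowers, hy, pow_one])
  have hmod := hp.card_modEq_card_fixedPoints (Sylow 2 Γ)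
  have h0 : Nat.card (MulAction.fixedPoints (zpowers y) (Sylow 2 Γ)) = 0 := by
    rw [Nat.card_eq_zero]
    left
    refine ⟨fun P => ?_⟩
    have h1 : y • P.1 = P.1 := P.2 ⟨y, mem_zpowers y⟩
    have h2 := h.syl.free y g (hy ▸ hro) hinv P.1 h1
    rw [h2, orderOf_one] at hy
    exact hr.ne_one hy.symm
  rw [h0] at hmod
  exact Nat.modEq_zero_iff_dvd.1 hmod

/-- The inductive claim for the subgroup `Δ`. -/
def Claim (L : Γ) (Δ : Subgroup Γ) : Prop :=
  ¬ 2 ∣ (normalizer ((zpowers L : Subgroup Γ) : Set Γ)).relIndex Δ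

omit h in
theorem centralizer_insert (S : Set Γ) (y : Γ) :
    centralizer (insert y S) = centralizer S ⊓ centralizer ({y} : Set Γ) := by
  ext g
  simp only [mem_inf, mem_centralizer_iff, Set.mem_insert_iff, forall_eq_or_imp,
    Set.mem_singleton_iff, forall_eq]
  exact and_comm

theorem prime_inverted_facts {S : Set Γ} (hS : S ⊆ (𝔗 : Subgroup Γ))
    (IH : ∀ S' : Set Γ, S' ⊆ (𝔗 : Subgroup Γ) →
      Nat.card (centralizer S') < Nat.card (centralizer S) → Claim L (centralizer S'))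
    {r : ℕ} {i y : Γ} (hr : r.Prime) (hro : Odd r) (hi : orderOf i = 2) (hiS : i ∈ centralizer S)
    (hyS : y ∈ centralizer S) (hy : orderOf y = r) (hinv : Inv i y) :
    Odd (Nat.card ↥(centralizer S ⊓ centralizer ({y} : Set Γ))) ∧
      (∃ δ ∈ centralizer S, δ * y * δ⁻¹ ∈ 𝔗) ∧
      ∃ e ∈ centralizer S, e⁻¹ * i * e ∈ 𝔐 := by
  haveI : Fact r.Prime := ⟨hr⟩
  set Δ := centralizer S with hΔ
  have hTΔ : (𝔗 : Subgroup Γ) ≤ Δ := fun t ht => mem_centralizer_iff.2 fun s hs =>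
    (h.comm L h.ord s (hS hs) t ht).eq
  have hLΔ : L ∈ Δ := hTΔ (mem_centralizer_singleton_iff.2 rfl)
  -- `y` is conjugate into the centralizer of `L`
  obtain ⟨d, hd, hdT⟩ := exists_conj_le (p := r) (𝔗 : Subgroup Γ) Δ (zpowers y) (zpowers_le.2 hyS)
    (IsPGroup.of_card (n := 1) (by rw [Nat.card_zpowers, hy, pow_one])) (fun hdvd => by
      have h1 : r ∣ (𝔗 : Subgroup Γ).index :=
        hdvd.trans (relIndex_mul_index hTΔ ▸ Dvd.intro _ rfl)
      exact hr.ne_one (Nat.eq_one_of_dvd_coprimes (h.cop ℓ L gL h.prime h.odd h.ord h.inv) h1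
        (h.dvd_card_sylow hr hro hy hinv)))
  set y' := d⁻¹ * y * d with hy'
  have hy'T : y' ∈ 𝔗 := hdT y (mem_zpowers y)
  set i' := d⁻¹ * i * d with hi'
  have hi'S : i' ∈ Δ := Δ.mul_mem (Δ.mul_mem (Δ.inv_mem hd) hiS) hd
  have hi'2 : orderOf i' = 2 := by
    have := H65.two_conj hi d⁻¹
    simpa using this
  have hinv' : Inv i' y' := by
    show d⁻¹ * i * d * (d⁻¹ * y * d) * (d⁻¹ * i * d)⁻¹ = (d⁻¹ * y * d)⁻¹
    calc d⁻¹ * i * d * (d⁻¹ * y * d) * (d⁻¹ * i * d)⁻¹ = d⁻¹ * (i * y * i⁻¹) * d := by group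
      _ = _ := by rw [hinv]; group
  have hy'ord : orderOf y' = r := by
    rw [hy', show d⁻¹ * y * d = d⁻¹ * y * d⁻¹⁻¹ by rw [inv_inv], oconj, hy]
  set C := Δ ⊓ centralizer ({y'} : Set Γ) with hC
  have hLC : L ∈ C :=
    mem_inf.2 ⟨hLΔ, mem_centralizer_singleton_iff.2 (commute_of_mem_centralizer hy'T).eq.symm⟩
  have hi'C : i' ∉ centralizer ({y'} : Set Γ) := fun hc => by
    have h1 := eq_one_of_inv_commute (hy'ord ▸ hro) hinv' (commute_of_mem_centralizer hc)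
    rw [h1, orderOf_one] at hy'ord
    exact hr.ne_one hy'ord.symm
  have hlt : Nat.card ↥(centralizer (insert y' S)) < Nat.card Δ := by
    rw [centralizer_insert, ← hC]
    exact Set.ncard_lt_ncard
      ⟨Set.inter_subset_left, fun hsub => hi'C (hsub hi'S).2⟩ (Set.toFinite _)
  have hclaimC := IH _ (Set.insert_subset_iff.2 ⟨hy'T, hS⟩) hlt
  rw [centralizer_insert, ← hC] at hclaimC
  set N := Δ ⊓ normalizer ((zpowers y' : Subgroup Γ) : Set Γ) with hN
  have hCN : C ≤ N := fun c hc => ⟨hc.1, by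
    refine TorusHyp.mem_normalizer_zpowers ?_
    rw [(commute_of_mem_centralizer hc.2).eq, mul_inv_cancel_right]⟩
  have hNC : ∀ n ∈ N, ∀ c ∈ C, n * c * n⁻¹ ∈ C := by
    intro n hn c hc
    refine ⟨Δ.mul_mem (Δ.mul_mem hn.1 hc.1) (Δ.inv_mem hn.1), ?_⟩
    have h1 : n⁻¹ * y' * n ∈ zpowers y' := by
      simpa using (mem_normalizer_iff.1 (inv_mem hn.2) y').1 (mem_zpowers y')
    obtain ⟨k, hk⟩ := mem_zpowers_iff.1 h1
    refine mem_centralizer_singleton_iff.2 ?_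
    have h2 : c * (n⁻¹ * y' * n) = (n⁻¹ * y' * n) * c := by
      rw [← hk]; exact ((commute_of_mem_centralizer hc.2).zpow_right k).eq
    calc n * c * n⁻¹ * y' = n * (c * (n⁻¹ * y' * n)) * n⁻¹ := by group
      _ = n * ((n⁻¹ * y' * n) * c) * n⁻¹ := by rw [h2]
      _ = y' * (n * c * n⁻¹) := by group
  have hclaimN : ¬ 2 ∣ (𝔐).relIndex N := by
    rw [h.frattini hCN fun n hn => hNC n hn L hLC]
    exact hclaimC
  have hi'N : i' ∈ N := ⟨hi'S, TorusHyp.mem_normalizer_zpowers (by rw [hinv', zpowers_inv])⟩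
  haveI : Fact (Nat.Prime 2) := ⟨Nat.prime_two⟩
  refine ⟨?_, ⟨d⁻¹, Δ.inv_mem hd, by rw [inv_inv]; exact hy'T⟩, ?_⟩
  · have hoddC : Odd (Nat.card C) := by
      by_contra hev
      rw [Nat.not_odd_iff_even] at hev
      obtain ⟨j, hjC, hj, hcom⟩ := exists_involution_commute C hev (two_pow_one hi'2) (by
        rw [mem_normalizer_iff]
        refine fun c => ⟨hNC i' hi'N c, fun hc => ?_⟩
        have := hNC _ (N.inv_mem hi'N) _ hc
        rwa [show i'⁻¹ * (i' * c * i'⁻¹) * i'⁻¹⁻¹ = c by group] at this)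
      obtain ⟨n, -, hn⟩ := exists_conj_le (p := 2) 𝔐 N (closure ({i', j} : Set Γ))
        ((closure_le N).2 (by rintro u (rfl | rfl); exacts [hi'N, hCN hjC]))
        (isPGroup_closure_commute hi'2 hj hcom) hclaimN
      have e := h.eq_of_commute (i := n⁻¹ * i' * n) (j := n⁻¹ * j * n)
        (by simpa using H65.two_conj hi'2 n⁻¹) (by simpa using H65.two_conj hj n⁻¹)
        (hn _ (subset_closure (by simp))) (hn _ (subset_closure (by simp)))
        (by
          show n⁻¹ * i' * n * (n⁻¹ * j * n) = n⁻¹ * j * n * (n⁻¹ * i' * n)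
          calc n⁻¹ * i' * n * (n⁻¹ * j * n) = n⁻¹ * (i' * j) * n := by group
            _ = n⁻¹ * (j * i') * n := by rw [hcom.eq]
            _ = _ := by group)
      exact hi'C (mul_left_cancel (mul_right_cancel e) ▸ hjC.2)
    have e : Nat.card ↥(Δ ⊓ centralizer ({y} : Set Γ)) = Nat.card C := by
      refine Nat.card_congr
        { toFun := fun u => ⟨d⁻¹ * u * d,
            Δ.mul_mem (Δ.mul_mem (Δ.inv_mem hd) u.2.1) hd, by
            refine mem_centralizer_singleton_iff.2 ?_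
            rw [hy']
            calc d⁻¹ * u * d * (d⁻¹ * y * d) = d⁻¹ * (u * y) * d := by group
              _ = d⁻¹ * (y * u) * d := by rw [(commute_of_mem_centralizer u.2.2).eq]
              _ = _ := by group⟩
          invFun := fun u => ⟨d * u * d⁻¹,
            Δ.mul_mem (Δ.mul_mem hd u.2.1) (Δ.inv_mem hd), by
            refine mem_centralizer_singleton_iff.2 ?_
            have h1 := commute_of_mem_centralizer u.2.2
            calc d * u * d⁻¹ * y = d * (u * y') * d⁻¹ := by rw [hy']; group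
              _ = d * (y' * u) * d⁻¹ := by rw [h1.eq]
              _ = _ := by rw [hy']; group⟩
          left_inv := fun u => Subtype.ext (by simp [mul_assoc])
          right_inv := fun u => Subtype.ext (by simp [mul_assoc]) }
    rw [e]
    exact hoddC
  · obtain ⟨n, hn, hnM⟩ := exists_conj_le (p := 2) 𝔐 N (zpowers i') (zpowers_le.2 hi'N)
      (IsPGroup.of_card (n := 1) (by rw [Nat.card_zpowers, hi'2, pow_one])) hclaimN
    refine ⟨d * n, Δ.mul_mem hd hn.1, ?_⟩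
    have := hnM i' (mem_zpowers i')
    convert this using 1
    rw [hi']
    group

theorem claim (S : Set Γ) (hS : S ⊆ (𝔗 : Subgroup Γ))
    (IH : ∀ S' : Set Γ, S' ⊆ (𝔗 : Subgroup Γ) →
      Nat.card (centralizer S') < Nat.card (centralizer S) → Claim L (centralizer S')) :
    Claim L (centralizer S) := by
  classical
  haveI : Fact (Nat.Prime 2) := ⟨Nat.prime_two⟩
  set Δ := centralizer S with hΔ
  have hTΔ : (𝔗 : Subgroup Γ) ≤ Δ := fun t ht => mem_centralizer_iff.2 fun s hs =>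
    (h.comm L h.ord s (hS hs) t ht).eq
  have hLΔ : L ∈ Δ := hTΔ (mem_centralizer_singleton_iff.2 rfl)
  have htrans : ∀ P Q : Sylow 2 Γ, ∃ c ∈ (𝔗 : Subgroup Γ), c • P = Q :=
    h.syl.trans ℓ L gL h.prime h.odd h.ord h.inv
  -- trivial `2`-core
  have hO2 : ∀ {i : Γ}, orderOf i = 2 → ∀ hiΔ : i ∈ Δ,
      (⟨i, hiΔ⟩ : Δ) ∉ Cfsg.pCore 2 Δ := by
    intro i hi hiΔ hmem
    have hn : (Cfsg.pCore 2 Δ).Normal := H1.pCore_normal' 2 Δ
    obtain ⟨P0, hP0⟩ := ((H1.isPGroup_pCore 2 Δ).map Δ.subtype).exists_le_sylow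
    obtain ⟨P, hP⟩ := h.syl.exists_not_mem (H65.ne_one_of_two hi)
    obtain ⟨c, hc, rfl⟩ := htrans P0 P
    apply hP
    rw [Sylow.coe_subgroup_smul, mem_pointwise_smul_iff_inv_smul_mem]
    have h1 : (⟨c, hTΔ hc⟩ : Δ)⁻¹ * ⟨i, hiΔ⟩ * (⟨c, hTΔ hc⟩ : Δ)⁻¹⁻¹ ∈ Cfsg.pCore 2 Δ :=
      hn.conj_mem _ hmem _
    have h2 := hP0 (mem_map_of_mem Δ.subtype h1)
    simpa [MulAut.smul_def] using h2
  have hA := fun {r : ℕ} {i y : Γ} => h.prime_inverted_facts (r := r) (i := i) (y := y) hS IH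
  have hconj : ∀ {i : Γ}, orderOf i = 2 → i ∈ Δ → ∃ e ∈ Δ, e⁻¹ * i * e ∈ 𝔐 := by
    intro i hi hiΔ
    obtain ⟨r, y, hr, hro, hyΔ, hy, hinv⟩ := exists_prime_inverted hiΔ hi (hO2 hi hiΔ)
    exact (hA hr hro hi hiΔ hyΔ hy hinv).2.2
  by_cases hev : ∃ i ∈ Δ, orderOf i = 2
  swap
  · intro hd
    obtain ⟨x, hx⟩ := exists_prime_orderOf_dvd_card' (G := Δ) 2
      (hd.trans (relIndex_dvd_card _ _))
    exact hev ⟨x, x.2, by rw [Subgroup.orderOf_coe]; exact hx⟩
  obtain ⟨i0, hi0Δ, hi0⟩ := hev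
  by_cases hcomm : ∀ i ∈ Δ, ∀ j ∈ Δ, orderOf i = 2 → orderOf j = 2 → Commute i j → i = j
  · -- no commuting involutions: the `Z*`-theorem
    obtain ⟨e, he, heM⟩ := hconj hi0 hi0Δ
    set m := e⁻¹ * i0 * e with hm
    have hmΔ : m ∈ Δ := Δ.mul_mem (Δ.mul_mem (Δ.inv_mem he) hi0Δ) he
    have hm2 : orderOf m = 2 := by simpa using H65.two_conj hi0 e⁻¹
    have hiso : Cfsg.IsIsolatedInvolution (⟨m, hmΔ⟩ : Δ) := by
      refine ⟨by rw [Subgroup.orderOf_mk]; exact hm2, fun g hg => Subtype.ext ?_⟩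
      have hc : Commute m ((g : Γ) * m * (g : Γ)⁻¹) := congrArg Subtype.val hg.eq
      exact (hcomm m hmΔ _ (Δ.mul_mem (Δ.mul_mem g.2 hmΔ) (Δ.inv_mem g.2)) hm2
        (H65.two_conj hm2 _) hc).symm
    have hz := H85.zStar hiso ⟨L, hLΔ⟩
    set O := Cfsg.pPrimeCore 2 Δ with hO
    haveI hOn : O.Normal := H1.pPrimeCore_normal' 2 Δ
    have hLinv := h.inv_of_involution hm2 heM
    have hL2 : (⟨L, hLΔ⟩ : Δ) * ⟨L, hLΔ⟩ ∈ O := by
      have h1 := O.inv_mem hz
      convert h1 using 1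
      apply Subtype.ext
      show L * L = (m * L * m⁻¹ * L⁻¹)⁻¹
      rw [hLinv, mul_inv_rev, inv_inv]
    have hLO : (⟨L, hLΔ⟩ : Δ) ∈ O := H85.mem_of_sq_mem_of_odd
      (by rw [Subgroup.orderOf_mk, h.ord]; exact h.odd) hL2
    show ¬ 2 ∣ (𝔐).relIndex Δ
    rw [h.frattini (H := O.map Δ.subtype) (map_subtype_le O) fun n hn =>
      ⟨⟨n, hn⟩ * ⟨L, hLΔ⟩ * (⟨n, hn⟩ : Δ)⁻¹, hOn.conj_mem _ hLO _, rfl⟩]
    intro hd
    have h1 := hd.trans (relIndex_dvd_card _ _)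
    rw [card_map_of_injective Δ.subtype_injective] at h1
    exact (Nat.prime_two.coprime_iff_not_dvd.1 (H1.card_pPrimeCore_coprime 2 Δ).symm) h1
  -- two commuting involutions lead to a contradiction
  exfalso
  push Not at hcomm
  obtain ⟨i, hiΔ, i2, hi2Δ, hi, hi2, hii, hne⟩ := hcomm
  let Fix : Γ → Set (Sylow 2 Γ) := fun j => {P | j ∈ (P : Subgroup Γ)}
  have hFc : ∀ g j : Γ, ∀ P : Sylow 2 Γ, P ∈ Fix (g * j * g⁻¹) ↔ g⁻¹ • P ∈ Fix j := by
    intro g j P
    constructor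
    · intro hj
      have hj' : g * j * g⁻¹ ∈ (P : Subgroup Γ) := hj
      have h1 := conj_mem_smul hj' g⁻¹
      simpa [Fix, mul_assoc] using h1
    · intro hj
      have hj' : j ∈ ((g⁻¹ • P : Sylow 2 Γ) : Subgroup Γ) := hj
      have h1 := conj_mem_smul hj' g
      rwa [smul_inv_smul] at h1
  have hcongr : ∀ g a b : Γ, Fix a = Fix b → Fix (g * a * g⁻¹) = Fix (g * b * g⁻¹) := by
    intro g a b hab
    ext P
    rw [hFc, hFc, hab]
  have hne' : ∀ j : Γ, orderOf j = 2 → ∃ P, P ∈ Fix j := by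
    intro j hj
    obtain ⟨P, hP⟩ := (IsPGroup.of_card (n := 1) (by rw [Nat.card_zpowers, hj, pow_one]) :
      IsPGroup 2 (zpowers j)).exists_le_sylow
    exact ⟨P, hP (mem_zpowers j)⟩
  -- transitivity of the centralizer of an involution on its fixed points
  have hFtrans : ∀ j ∈ Δ, orderOf j = 2 → ∀ P ∈ Fix j, ∀ Q ∈ Fix j,
      ∃ c ∈ Δ, Commute c j ∧ c • P = Q := by
    intro j hjΔ hj P hP Q hQ
    obtain ⟨e, he, heM⟩ := hconj hj hjΔ
    have hLinv := h.inv_of_involution (by simpa using H65.two_conj hj e⁻¹) heM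
    obtain ⟨t0, ht0, ht0P⟩ := htrans (e⁻¹ • P) (e⁻¹ • Q)
    set t := e * t0 * e⁻¹ with ht
    have htP : t • P = Q := by rw [ht, mul_smul, mul_smul, ht0P, smul_inv_smul]
    have hTe : ∀ {u : Γ}, u ∈ (𝔗 : Subgroup Γ) → e * u * e⁻¹ ∈ Δ := fun hu =>
      Δ.mul_mem (Δ.mul_mem he (hTΔ hu)) (Δ.inv_mem he)
    -- the conjugate of `t0` by the conjugate of `j`
    set j0 := e⁻¹ * j * e with hj0
    have hj0t : j0 * t0 * j0⁻¹ ∈ (𝔗 : Subgroup Γ) := by
      rw [mem_centralizer_singleton_iff]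
      have h1 : j0⁻¹ * L * j0 = L⁻¹ := by
        have e1 : j0⁻¹ = j0 := H65.inv_of_two (by simpa using H65.two_conj hj e⁻¹)
        have := hLinv
        rw [Inv, e1] at this
        rwa [e1]
      calc j0 * t0 * j0⁻¹ * L = j0 * (t0 * (j0⁻¹ * L * j0)) * j0⁻¹ := by group
        _ = j0 * ((j0⁻¹ * L * j0) * t0) * j0⁻¹ := by
            rw [h1, ((commute_of_mem_centralizer ht0).inv_right).eq]
        _ = L * (j0 * t0 * j0⁻¹) := by group
    set s0 := t0⁻¹ * (j0 * t0 * j0⁻¹) with hs0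
    have hs0T : s0 ∈ (𝔗 : Subgroup Γ) := mul_mem (inv_mem ht0) hj0t
    obtain ⟨k, hk⟩ := Odd.of_dvd_nat (h.oddCent L h.ord) (Subgroup.orderOf_dvd_natCard _ hs0T)
    have hsP : s0 • (e⁻¹ • P) = e⁻¹ • P := by
      have hjP := smul_eq_of_mem (u := j) hP
      have hjQ := smul_eq_of_mem (u := j) hQ
      have h1 : j0⁻¹ • e⁻¹ • P = e⁻¹ • P := by
        rw [inv_smul_eq_iff, hj0, mul_smul, mul_smul, smul_inv_smul, hjP]
      have h2 : j0 • e⁻¹ • Q = e⁻¹ • Q := by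
        rw [hj0, mul_smul, mul_smul, smul_inv_smul, hjQ]
      rw [hs0, mul_smul, mul_smul, mul_smul, h1, ht0P, h2, inv_smul_eq_iff, ht0P]
    have hsinv : Inv j0 s0 := by
      have e1 : j0 * j0 = 1 := H65.mul_self_of_two (by simpa using H65.two_conj hj e⁻¹)
      show j0 * (t0⁻¹ * (j0 * t0 * j0⁻¹)) * j0⁻¹ = (t0⁻¹ * (j0 * t0 * j0⁻¹))⁻¹
      calc j0 * (t0⁻¹ * (j0 * t0 * j0⁻¹)) * j0⁻¹
          = (j0 * t0 * j0⁻¹)⁻¹ * ((j0 * j0) * t0 * (j0 * j0)⁻¹) := by group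
        _ = _ := by rw [e1]; group
    have hfix : j0 * (t0 * s0 ^ (k + 1)) * j0⁻¹ = t0 * s0 ^ (k + 1) := by
      calc j0 * (t0 * s0 ^ (k + 1)) * j0⁻¹
          = (j0 * t0 * j0⁻¹) * (j0 * s0 ^ (k + 1) * j0⁻¹) := by group
        _ = t0 * (s0 * (s0 ^ (k + 1))⁻¹) := by
            rw [inv_pow_pow hsinv (k + 1), ← mul_assoc t0 s0,
              show t0 * s0 = j0 * t0 * j0⁻¹ by rw [hs0, mul_inv_cancel_left]]
        _ = t0 * s0 ^ (k + 1) := by
            congr 1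
            rw [mul_inv_eq_iff_eq_mul, ← pow_add, show k + 1 + (k + 1) = orderOf s0 + 1 by omega,
              pow_succ, pow_orderOf_eq_one, one_mul]
    refine ⟨e * (t0 * s0 ^ (k + 1)) * e⁻¹, hTe (mul_mem ht0 (pow_mem hs0T _)), ?_, ?_⟩
    · have h1 := mul_inv_eq_iff_eq_mul.1 hfix
      show e * (t0 * s0 ^ (k + 1)) * e⁻¹ * j = j * (e * (t0 * s0 ^ (k + 1)) * e⁻¹)
      calc e * (t0 * s0 ^ (k + 1)) * e⁻¹ * j = e * ((t0 * s0 ^ (k + 1)) * j0) * e⁻¹ := by
            rw [hj0]; group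
        _ = e * (j0 * (t0 * s0 ^ (k + 1))) * e⁻¹ := by rw [← h1]
        _ = _ := by rw [hj0]; group
    · have hpow : s0 ^ (k + 1) • (e⁻¹ • P) = e⁻¹ • P :=
        (MulAction.stabilizer Γ (e⁻¹ • P)).pow_mem (MulAction.mem_stabilizer_iff.2 hsP) _
      rw [mul_smul, mul_smul, mul_smul, hpow, ht0P, smul_inv_smul]
  -- commuting involutions have the same fixed points
  have hsub : ∀ a ∈ Δ, ∀ b ∈ Δ, orderOf a = 2 → orderOf b = 2 → Commute a b →
      Fix a ⊆ Fix b := by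
    intro a haΔ b hbΔ ha hb hab P hP
    set C := Δ ⊓ centralizer ({a} : Set Γ) with hC
    have hbC : b ∈ C := ⟨hbΔ, mem_centralizer_singleton_iff.2 hab.eq.symm⟩
    have hbO : (⟨b, hbC⟩ : C) ∈ Cfsg.pCore 2 C := by
      by_contra hO
      obtain ⟨r, y, hr, hro, hyC, hy, hinv⟩ := exists_prime_inverted hbC hb hO
      have h1 := (hA hr hro hb hbΔ hyC.1 hy hinv).1
      have h2 := Subgroup.orderOf_dvd_natCard (Δ ⊓ centralizer ({y} : Set Γ))
        (show a ∈ Δ ⊓ centralizer ({y} : Set Γ) from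
          ⟨haΔ, mem_centralizer_singleton_iff.2 (commute_of_mem_centralizer hyC.2).eq.symm⟩)
      rw [ha] at h2
      exact (Nat.not_even_iff_odd.2 h1) (even_iff_two_dvd.2 h2)
    have hn : (Cfsg.pCore 2 C).Normal := H1.pCore_normal' 2 C
    set O := (Cfsg.pCore 2 C).map C.subtype with hO
    have hU : IsPGroup 2 ↥(zpowers a ⊔ O) := by
      refine IsPGroup.to_sup_of_normal_right' ?_ ((H1.isPGroup_pCore 2 C).map C.subtype) ?_
      · exact IsPGroup.of_card (n := 1) (by rw [Nat.card_zpowers, ha, pow_one])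
      · rw [zpowers_le, mem_normalizer_iff]
        have hfix : ∀ u ∈ C, a * u * a⁻¹ = u := fun u hu => by
          rw [← (commute_of_mem_centralizer hu.2).eq, mul_inv_cancel_right]
        intro u
        constructor
        · intro hu
          rw [hfix u (map_subtype_le _ hu)]
          exact hu
        · intro hu
          have h1 := hfix _ (map_subtype_le _ hu)
          have e : a * u * a⁻¹ = u := mul_left_cancel (mul_right_cancel h1)
          rwa [e] at hu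
    obtain ⟨P0, hP0⟩ := hU.exists_le_sylow
    obtain ⟨c, hcΔ, hca, hcP⟩ := hFtrans a haΔ ha P0 (hP0 (mem_sup_left (mem_zpowers a))) P hP
    have hcC : c ∈ C := ⟨hcΔ, mem_centralizer_singleton_iff.2 hca.eq⟩
    show b ∈ (P : Subgroup Γ)
    rw [← hcP, Sylow.coe_subgroup_smul, mem_pointwise_smul_iff_inv_smul_mem]
    have h1 : (⟨c, hcC⟩ : C)⁻¹ * ⟨b, hbC⟩ * (⟨c, hcC⟩ : C)⁻¹⁻¹ ∈ Cfsg.pCore 2 C :=
      hn.conj_mem _ hbO _
    have h2 := hP0 (mem_sup_right (mem_map_of_mem C.subtype h1))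
    simpa [MulAut.smul_def] using h2
  have heq : ∀ a ∈ Δ, ∀ b ∈ Δ, orderOf a = 2 → orderOf b = 2 → Commute a b → Fix a = Fix b :=
    fun a haΔ b hbΔ ha hb hab => (hsub a haΔ b hbΔ ha hb hab).antisymm
      (hsub b hbΔ a haΔ hb ha hab.symm)
  -- involutions in a common Sylow subgroup have the same fixed points
  have hshare : ∀ (P : Sylow 2 Γ), ∀ a ∈ Δ, ∀ b ∈ Δ, orderOf a = 2 → orderOf b = 2 →
      a ∈ (P : Subgroup Γ) → b ∈ (P : Subgroup Γ) → Fix a = Fix b := by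
    intro P a haΔ b hbΔ ha hb haP hbP
    set U := (P : Subgroup Γ) ⊓ Δ with hU
    have hUp : IsPGroup 2 U := P.isPGroup'.to_le inf_le_left
    haveI : Nontrivial U := ⟨⟨⟨a, haP, haΔ⟩, 1, fun e =>
      H65.ne_one_of_two ha (congrArg Subtype.val e)⟩⟩
    haveI := hUp.center_nontrivial
    have h2 : 2 ∣ Nat.card (Subgroup.center U) := by
      obtain ⟨n, hn⟩ := (hUp.to_subgroup (Subgroup.center U)).exists_card_eq
      rw [hn]
      rcases n with _ | n
      · rw [pow_zero] at hn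
        exact absurd hn (Finite.one_lt_card_iff_nontrivial.2 inferInstance).ne'
      · exact dvd_pow_self 2 n.succ_ne_zero
    obtain ⟨z, hz⟩ := exists_prime_orderOf_dvd_card' 2 h2
    have hz2 : orderOf (z.1.1 : Γ) = 2 := by
      rw [Subgroup.orderOf_coe, Subgroup.orderOf_coe]; exact hz
    have hzc : ∀ {u : Γ}, u ∈ U → Commute u (z.1.1 : Γ) := fun hu =>
      congrArg Subtype.val (mem_center_iff.1 z.2 ⟨_, hu⟩)
    exact (heq a haΔ z.1.1 z.1.2.2 ha hz2 (hzc ⟨haP, haΔ⟩)).trans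
      (heq z.1.1 z.1.2.2 b hbΔ hz2 hb (hzc ⟨hbP, hbΔ⟩).symm)
  -- a `2`-element of a member stabilizing another member
  have hpow : ∀ y a : Γ, Fix (y * a * y⁻¹) = Fix a → ∀ m : ℕ,
      Fix (y ^ m * a * (y ^ m)⁻¹) = Fix a := by
    intro y a hya m
    induction m with
    | zero => simp
    | succ m ih =>
      have h1 := hcongr y _ _ ih
      rw [hya] at h1
      rw [← h1, pow_succ']
      congr 1
      group
  have hstab : ∀ v ∈ Δ, ∀ a ∈ Δ, orderOf v = 2 → orderOf a = 2 →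
      Fix (v * a * v⁻¹) = Fix a → Fix v = Fix a := by
    intro v hvΔ a haΔ hv ha hva
    set a' := v * a * v⁻¹ with ha'
    by_cases he1 : a * a' = 1
    · rw [mul_eq_one_iff_inv_eq, H65.inv_of_two ha] at he1
      refine (heq a haΔ v hvΔ ha hv ?_).symm
      show a * v = v * a
      exact (mul_inv_eq_iff_eq_mul.1 (he1.symm.trans rfl)).symm
    obtain ⟨P, hP⟩ := hne' a ha
    have ha'P : P ∈ Fix a' := by rw [hva]; exact hP
    set w := a * a' with hw
    have hwP : w ∈ (P : Subgroup Γ) := mul_mem hP ha'P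
    have hwΔ : w ∈ Δ := Δ.mul_mem haΔ (Δ.mul_mem (Δ.mul_mem hvΔ haΔ) (Δ.inv_mem hvΔ))
    have hw2 : 2 ∣ orderOf w := by
      obtain ⟨n, hn⟩ := IsPGroup.iff_orderOf.1 P.isPGroup' ⟨w, hwP⟩
      rw [Subgroup.orderOf_mk] at hn
      rcases n with _ | n
      · rw [pow_zero, orderOf_eq_one_iff] at hn; exact absurd hn he1
      · rw [hn]; exact dvd_pow_self 2 n.succ_ne_zero
    have hwinv : Inv v w := by
      have e : v * a' * v⁻¹ = a := by
        calc v * (v * a * v⁻¹) * v⁻¹ = (v * v) * a * (v * v)⁻¹ := by group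
          _ = a := by rw [H65.mul_self_of_two hv, one_mul, inv_one, mul_one]
      show v * (a * a') * v⁻¹ = (a * a')⁻¹
      calc v * (a * a') * v⁻¹ = (v * a * v⁻¹) * (v * a' * v⁻¹) := by group
        _ = a' * a := by rw [e]
        _ = _ := by rw [mul_inv_rev, H65.inv_of_two ha, H65.inv_of_two (H65.two_conj ha v)]
    set w0 := w ^ (orderOf w / 2) with hw0'
    have hw0 : orderOf w0 = 2 := orderOf_pow_orderOf_div (orderOf_pos w).ne' hw2
    have hcv : Commute v w0 := by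
      have h1 := inv_pow_pow hwinv (orderOf w / 2)
      rw [← hw0', Inv, H65.inv_of_two hw0] at h1
      exact mul_inv_eq_iff_eq_mul.1 h1
    exact (heq v hvΔ w0 (Δ.pow_mem hwΔ _) hv hw0 hcv).trans
      (hshare P w0 (Δ.pow_mem hwΔ _) a haΔ hw0 ha (pow_mem hwP _) hP)
  have hi_eq : Fix i = Fix i2 := heq i hiΔ i2 hi2Δ hi hi2 hii
  obtain ⟨Pi, hPi⟩ := hne' i hi
  let 𝒦 := {K : Set (Sylow 2 Γ) // (∃ j ∈ Δ, orderOf j = 2 ∧ Fix j = K) ∧ K ≠ Fix i}
  have hKP : ∀ K : 𝒦, ∃ t : Γ, t ∈ Δ ∧ t • Pi ∈ K.1 := by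
    rintro ⟨K, ⟨j, -, hj, rfl⟩, -⟩
    obtain ⟨P, hP⟩ := hne' j hj
    obtain ⟨t, ht, htP⟩ := htrans Pi P
    exact ⟨t, hTΔ ht, show t • Pi ∈ Fix j by rw [htP]; exact hP⟩
  choose tr htrΔ htrK using hKP
  let v : 𝒦 × Bool → Γ := fun p => tr p.1 * (bif p.2 then i else i2) * (tr p.1)⁻¹
  have hv2 : ∀ p, orderOf (v p) = 2 := fun p => by
    refine H65.two_conj ?_ _
    rcases p.2 <;> assumption
  have hvΔ : ∀ p, v p ∈ Δ := fun p => by
    refine Δ.mul_mem (Δ.mul_mem (htrΔ _) ?_) (Δ.inv_mem (htrΔ _))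
    rcases p.2 <;> assumption
  have hvF : ∀ p, Fix (v p) = p.1.1 := fun p => by
    obtain ⟨⟨j, hjΔ, hj, hjK⟩, -⟩ := p.1.2
    rw [← hjK]
    refine hshare (tr p.1 • Pi) _ (hvΔ p) j hjΔ (hv2 p) hj ?_ ?_
    · refine conj_mem_smul ?_ _
      rcases p.2
      · exact (hi_eq ▸ hPi : Pi ∈ Fix i2)
      · exact hPi
    · have h1 := htrK p.1
      rw [← hjK] at h1
      exact h1
  have hvK : ∀ p, Fix (v p * i * (v p)⁻¹) ≠ Fix i := fun p e =>
    p.1.2.2 (by rw [← hvF p]; exact hstab _ (hvΔ p) i hiΔ (hv2 p) hi e)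
  let Φ : 𝒦 × Bool → 𝒦 := fun p => ⟨Fix (v p * i * (v p)⁻¹),
    ⟨_, Δ.mul_mem (Δ.mul_mem (hvΔ p) hiΔ) (Δ.inv_mem (hvΔ p)), H65.two_conj hi _, rfl⟩, hvK p⟩
  have hnot : ¬ Function.Injective Φ := by
    intro hinj
    have h1 := Nat.card_le_card_of_injective Φ hinj
    rw [Nat.card_prod, Nat.card_eq_fintype_card (α := Bool), Fintype.card_bool] at h1
    obtain ⟨P, hP⟩ := h.syl.exists_not_mem (H65.ne_one_of_two hi)
    obtain ⟨t, ht, htP⟩ := htrans Pi P
    haveI : Nonempty 𝒦 := ⟨⟨Fix (t * i * t⁻¹), ⟨_, Δ.mul_mem (Δ.mul_mem (hTΔ ht) hiΔ)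
      (Δ.inv_mem (hTΔ ht)), H65.two_conj hi _, rfl⟩, fun e => hP (by
        have h2 : t • Pi ∈ Fix (t * i * t⁻¹) := conj_mem_smul hPi t
        rw [e, htP] at h2
        exact h2)⟩⟩
    have h0 := Nat.card_pos (α := 𝒦)
    omega
  simp only [Function.Injective, not_forall] at hnot
  obtain ⟨p, q, hpq, hpq'⟩ := hnot
  have hvne : v p ≠ v q := by
    intro e
    have hfst : p.1 = q.1 := Subtype.ext (by rw [← hvF p, ← hvF q, e])
    refine hpq' (Prod.ext hfst ?_)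
    have e' : (bif p.2 then i else i2) = (bif q.2 then i else i2) := by
      simp only [v, hfst] at e
      exact mul_left_cancel (mul_right_cancel e)
    cases hp2 : p.2 <;> cases hq2 : q.2 <;> simp_all
  set y := v p * v q with hy
  have hyΔ : y ∈ Δ := Δ.mul_mem (hvΔ p) (hvΔ q)
  have hyi : Fix (y * i * y⁻¹) = Fix i := by
    have h1 : Fix (v p * i * (v p)⁻¹) = Fix (v q * i * (v q)⁻¹) := congrArg Subtype.val hpq
    have h2 := hcongr (v p) _ _ h1
    rw [hy]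
    refine Eq.trans ?_ (h2.symm.trans ?_)
    · congr 1; group
    · congr 1
      calc v p * (v p * i * (v p)⁻¹) * (v p)⁻¹ = (v p * v p) * i * (v p * v p)⁻¹ := by group
        _ = i := by rw [H65.mul_self_of_two (hv2 p), one_mul, inv_one, mul_one]
  have hyinv : Inv (v p) y := H65.conj_prod (hv2 p) (hv2 q)
  by_cases hyodd : Odd (orderOf y)
  swap
  · rw [Nat.not_odd_iff_even, even_iff_two_dvd] at hyodd
    set y0 := y ^ (orderOf y / 2) with hy0'
    have hy0 : orderOf y0 = 2 := orderOf_pow_orderOf_div (orderOf_pos y).ne' hyodd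
    have hF0 := hstab y0 (Δ.pow_mem hyΔ _) i hiΔ hy0 hi (hpow y i hyi _)
    have hcv : Commute (v p) y0 := by
      have h1 := inv_pow_pow hyinv (orderOf y / 2)
      rw [← hy0', Inv, H65.inv_of_two hy0] at h1
      exact mul_inv_eq_iff_eq_mul.1 h1
    exact p.1.2.2 (by
      rw [← hvF p, heq _ (hvΔ p) y0 (Δ.pow_mem hyΔ _) (hv2 p) hy0 hcv, hF0])
  have hy1 : y ≠ 1 := fun e => hvne (by
    rw [hy, mul_eq_one_iff_eq_inv, H65.inv_of_two (hv2 q)] at e; exact e)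
  obtain ⟨k, r, hr, hro, hord, hinv1⟩ := exists_prime_power hy1 hyodd hyinv
  set y1 := y ^ k with hy1'
  have hy1Δ : y1 ∈ Δ := Δ.pow_mem hyΔ k
  obtain ⟨hoddC, ⟨δ, hδ, hδT⟩, -⟩ := hA hr hro (hv2 p) (hvΔ p) hy1Δ hord hinv1
  have hy1i : Fix (y1 * i * y1⁻¹) = Fix i := hpow y i hyi k
  have hall : ∀ a ∈ Δ, orderOf a = 2 → Fix (y1 * a * y1⁻¹) = Fix a := by
    intro a haΔ ha
    obtain ⟨P, hP⟩ := hne' a ha
    obtain ⟨t0, ht0, ht0P⟩ := htrans (δ • Pi) (δ • P)
    set t := δ⁻¹ * t0 * δ with ht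
    have htP : t • Pi = P := by rw [ht, mul_smul, mul_smul, ht0P, inv_smul_smul]
    have htc : Commute y1 t := by
      have h1 := h.comm L h.ord _ hδT _ ht0
      show y1 * (δ⁻¹ * t0 * δ) = δ⁻¹ * t0 * δ * y1
      calc y1 * (δ⁻¹ * t0 * δ) = δ⁻¹ * ((δ * y1 * δ⁻¹) * t0) * δ := by group
        _ = δ⁻¹ * (t0 * (δ * y1 * δ⁻¹)) * δ := by rw [h1.eq]
        _ = _ := by group
    have htΔ : t ∈ Δ := Δ.mul_mem (Δ.mul_mem (Δ.inv_mem hδ) (hTΔ ht0)) hδ
    have hFa : Fix (t * i * t⁻¹) = Fix a := hshare P _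
      (Δ.mul_mem (Δ.mul_mem htΔ hiΔ) (Δ.inv_mem htΔ)) a haΔ (H65.two_conj hi _) ha
      (htP ▸ conj_mem_smul hPi t) hP
    rw [← hcongr y1 _ _ hFa]
    have h2 := hcongr t _ _ hy1i
    rw [hFa] at h2
    rw [← h2]
    congr 1
    calc y1 * (t * i * t⁻¹) * y1⁻¹ = (y1 * t) * i * (y1 * t)⁻¹ := by group
      _ = (t * y1) * i * (t * y1)⁻¹ := by rw [htc.eq]
      _ = t * (y1 * i * y1⁻¹) * t⁻¹ := by group
  set i' := y1 * i * y1⁻¹ with hi'
  have hi'P : Pi ∈ Fix i' := by rw [hy1i]; exact hPi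
  set c := i * i' with hc
  have hcΔ : c ∈ Δ := Δ.mul_mem hiΔ (Δ.mul_mem (Δ.mul_mem hy1Δ hiΔ) (Δ.inv_mem hy1Δ))
  have hc1 : c ≠ 1 := by
    intro e
    rw [hc, mul_eq_one_iff_inv_eq, H65.inv_of_two hi] at e
    have hmem : i ∈ Δ ⊓ centralizer ({y1} : Set Γ) := ⟨hiΔ, mem_centralizer_singleton_iff.2
      (mul_inv_eq_iff_eq_mul.1 (e.symm.trans rfl)).symm⟩
    have h2 := Subgroup.orderOf_dvd_natCard _ hmem
    rw [hi] at h2
    exact (Nat.not_even_iff_odd.2 hoddC) (even_iff_two_dvd.2 h2)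
  have hcP : c ∈ (Pi : Subgroup Γ) := mul_mem hPi hi'P
  have hc2 : 2 ∣ orderOf c := by
    obtain ⟨n, hn⟩ := IsPGroup.iff_orderOf.1 Pi.isPGroup' ⟨c, hcP⟩
    rw [Subgroup.orderOf_mk] at hn
    rcases n with _ | n
    · rw [pow_zero, orderOf_eq_one_iff] at hn; exact absurd hn hc1
    · rw [hn]; exact dvd_pow_self 2 n.succ_ne_zero
  set a := v p with ha'
  have hca : Fix (c * a * c⁻¹) = Fix a := by
    have h1 : Fix (y1⁻¹ * a * y1) = Fix a := by
      have := hall (y1⁻¹ * a * y1) (Δ.mul_mem (Δ.mul_mem (Δ.inv_mem hy1Δ) (hvΔ p)) hy1Δ)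
        (by simpa using H65.two_conj (hv2 p) y1⁻¹)
      rw [show y1 * (y1⁻¹ * a * y1) * y1⁻¹ = a by group] at this
      exact this.symm
    have h2 := hcongr y1 _ _ (hcongr i _ _ h1)
    rw [hall (i * a * i⁻¹) (Δ.mul_mem (Δ.mul_mem hiΔ (hvΔ p)) (Δ.inv_mem hiΔ))
      (H65.two_conj (hv2 p) i)] at h2
    have h3 := hcongr i _ _ h2
    refine Eq.trans ?_ (h3.trans ?_)
    · congr 1
      rw [hc, hi', H65.inv_of_two hi]
      simp only [mul_inv_rev, inv_inv, H65.inv_of_two hi, mul_assoc]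
    · congr 1
      calc i * (i * a * i⁻¹) * i⁻¹ = (i * i) * a * (i * i)⁻¹ := by group
        _ = a := by rw [H65.mul_self_of_two hi, one_mul, inv_one, mul_one]
  set c0 := c ^ (orderOf c / 2) with hc0'
  have hc0 : orderOf c0 = 2 := orderOf_pow_orderOf_div (orderOf_pos c).ne' hc2
  have hF1 := hshare Pi c0 (Δ.pow_mem hcΔ _) i hiΔ hc0 hi (pow_mem hcP _) hPi
  have hF2 := hstab c0 (Δ.pow_mem hcΔ _) a (hvΔ p) hc0 (hv2 p) (hpow c a hca _)
  exact p.1.2.2 (by rw [← hvF p, ← ha', ← hF2, hF1])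

theorem claim_all (S : Set Γ) (hS : S ⊆ (𝔗 : Subgroup Γ)) : Claim L (centralizer S) := by
  suffices H : ∀ (N : ℕ) (S : Set Γ), S ⊆ (𝔗 : Subgroup Γ) → Nat.card (centralizer S) ≤ N →
      Claim L (centralizer S) from H _ S hS le_rfl
  intro N
  induction N with
  | zero =>
    intro S _ hN
    have := Nat.card_pos (α := centralizer S)
    omega
  | succ N ih =>
    intro S hS hN
    exact h.claim S hS fun S' hS' hlt => ih S' hS' (by omega)

theorem isSolvable : Group.IsSolvable Γ := by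
  haveI : Fact (Nat.Prime 2) := ⟨Nat.prime_two⟩
  obtain ⟨P⟩ := (inferInstance : Nonempty (Sylow 2 Γ))
  have hclaim := h.claim_all ∅ (Set.empty_subset _)
  have htop : centralizer (∅ : Set Γ) = ⊤ := by
    rw [eq_top_iff]
    intro g _
    exact mem_centralizer_iff.2 fun s hs => hs.elim
  rw [Claim, htop] at hclaim
  obtain ⟨d, -, hd⟩ := exists_conj_le (p := 2) 𝔐 ⊤ (P : Subgroup Γ) le_top P.isPGroup' hclaim
  let f : (P : Subgroup Γ) →* ↥(𝔐) :=
    { toFun := fun u => ⟨d⁻¹ * u * d, hd u u.2⟩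
      map_one' := Subtype.ext (by simp)
      map_mul' := fun a b => Subtype.ext (by
        show d⁻¹ * (a * b : Γ) * d = d⁻¹ * a * d * (d⁻¹ * b * d)
        group) }
  have hφ : Function.Injective ((zpowers L).normalizerMonoidHom.comp f) := by
    rw [injective_iff_map_eq_one]
    intro u hu
    have h1 : f u ∈ (zpowers L).normalizerMonoidHom.ker := hu
    rw [normalizerMonoidHom_ker, mem_subgroupOf] at h1
    have h2 : d⁻¹ * (u : Γ) * d ∈ 𝔗 :=
      mem_centralizer_singleton_iff.2 (mem_centralizer_iff.1 h1 L (mem_zpowers L)).symm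
    have h3 := Odd.of_dvd_nat (h.oddCent L h.ord) (Subgroup.orderOf_dvd_natCard _ h2)
    obtain ⟨n, hn⟩ := IsPGroup.iff_orderOf.1 P.isPGroup' u
    have h4 : orderOf (d⁻¹ * (u : Γ) * d) = 2 ^ n := by
      rw [show d⁻¹ * (u : Γ) * d = d⁻¹ * u * d⁻¹⁻¹ by rw [inv_inv], oconj,
        Subgroup.orderOf_coe, hn]
    rw [h4] at h3
    rcases n with _ | n
    · rw [pow_zero, orderOf_eq_one_iff] at hn; exact hn
    · exact absurd (even_iff_two_dvd.2 (dvd_pow_self 2 n.succ_ne_zero)) (Nat.not_even_iff_odd.2 h3)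
  haveI : Fact ℓ.Prime := ⟨h.prime⟩
  haveI : IsCyclic (MulAut (zpowers L)) := by
    have e := IsCyclic.mulAutMulEquiv (zpowers L)
    haveI : IsCyclic (ZMod (Nat.card (zpowers L)))ˣ := by
      rw [Nat.card_zpowers, h.ord]
      infer_instance
    exact isCyclic_of_surjective e.symm e.symm.surjective
  haveI : IsCyclic (P : Subgroup Γ) := isCyclic_of_injective _ hφ
  obtain ⟨Q, N, hNn, hc⟩ := H85.hasNormalPComplement_of_cyclic_two P
  haveI : Group.IsSolvable N := H16.FT.oddOrder (Nat.not_even_iff_odd.1 fun he =>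
    H5.not_dvd_card_of_isComplement' hc he.two_dvd)
  haveI : Group.IsSolvable (Γ ⧸ N) := by
    obtain ⟨k, hk⟩ := IsPGroup.iff_card.mp Q.2
    haveI : Group.IsNilpotent (Γ ⧸ N) := (IsPGroup.of_card (n := k)
      (by rw [← Subgroup.index_eq_card, hc.symm.index_eq_card, hk]) :
        IsPGroup 2 (Γ ⧸ N)).isNilpotent
    infer_instance
  exact Group.isSolvable_of_ker_le_range N.subtype (QuotientGroup.mk' N)
    (by rw [QuotientGroup.ker_mk', range_subtype])

end TorusHyp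

end H3.RealGraph
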